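import Cfsg.Agent.Lib.Invol.L34Type.Plane.Three

/-!
# Twenty one points, pairwise collinear

Points are the conjugates of `A`, lines those of `B`; every involution is counted at the image of
the point `A`.
-/

set_option autoImplicit false
set_option linter.unusedSectionVars false
set_option linter.style.haveILetI false

namespace CfsgLib.Invol.L34Type

open Subgroup
open CfsgLib.Invol
open CfsgLib.Coprime (conjBy mem_conjBy conj_mem_conjBy conjBy_eq_self_iff conjBy_conjBy conjBy_one card_conjBy)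

universe u

variable {G : Type u} [Group G] [Finite G]

namespace Frame

variable (F : Frame G)

/-- The points of the plane. -/
def Pts : Set (Subgroup G) := {P | ∃ g, conjBy g F.A = P}

/-- Incidence. -/
def Inc (P L : Subgroup G) : Prop := ∃ g, conjBy g F.A = P ∧ conjBy g F.B = L

theorem inc_conj {P L : Subgroup G} (h : F.Inc P L) (x : G) : F.Inc (conjBy x P) (conjBy x L) := by
  obtain ⟨g, hP, hL⟩ := h
  exact ⟨x * g, by rw [← conjBy_conjBy, hP], by rw [← conjBy_conjBy, hL]⟩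

theorem inc_swap {P L : Subgroup G} (h : F.Inc P L) : F.swap.Inc L P := by
  obtain ⟨g, hP, hL⟩ := h
  exact ⟨g, by rw [F.swap_A]; exact hL, by rw [F.swap_B]; exact hP⟩

theorem inc_of_swap {P L : Subgroup G} (h : F.swap.Inc L P) : F.Inc P L := by
  obtain ⟨g, hL, hP⟩ := h
  rw [F.swap_A] at hL
  rw [F.swap_B] at hP
  exact ⟨g, hP, hL⟩

theorem inc_A_iff {L : Subgroup G} : F.Inc F.A L ↔ L ∈ F.lines :=
  ⟨fun ⟨g, hg, hL⟩ => ⟨g, conjBy_eq_self_iff.1 hg, hL⟩, fun ⟨n, hn, hL⟩ => ⟨n, conjBy_eq_self_iff.2 hn, hL⟩⟩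

theorem line_le_normalizer {P L : Subgroup G} (h : F.Inc P L) : L ≤ normalizer (P : Set G) := by
  obtain ⟨g, rfl, rfl⟩ := h
  rintro _ ⟨b, hb, rfl⟩
  show g * b * g⁻¹ ∈ _
  rw [← conjBy_eq_self_iff, conjBy_conjBy, show g * b * g⁻¹ * g = g * b by group,
    ← conjBy_conjBy, conjBy_eq_self_iff.2 (F.T_le_normalizer_A (F.B_le hb))]

end Frame

namespace PlaneHyp

variable {F : Frame G} (h : PlaneHyp F)
include h

theorem on_line {u : G} (hu : orderOf u = 2) (hN : u ∈ normalizer (F.A : Set G)) :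
    ∃ L ∈ F.lines, u ∈ L := by
  rcases h.normalizing_cases hu hN with hA | hL
  · obtain ⟨n, hn, hnZ⟩ := h.moveA u hA
    exact ⟨conjBy n⁻¹ F.B, ⟨n⁻¹, inv_mem hn, rfl⟩, mem_conjBy.2 (by rw [inv_inv]; exact F.Z_le_B hnZ)⟩
  · exact hL

/-- the line of an involution fixing a point passes through it -/
theorem fix_point {u : G} (hu : orderOf u = 2) {P : Subgroup G} (hP : P ∈ F.Pts)
    (hN : u ∈ normalizer (P : Set G)) {g : G} (hg : u ∈ conjBy g F.B) : F.Inc P (conjBy g F.B) := by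
  obtain ⟨k, rfl⟩ := hP
  have hu' : k⁻¹ * u * k ∈ normalizer (F.A : Set G) := by
    rw [← conjBy_eq_self_iff, ← conjBy_conjBy, ← conjBy_conjBy, conjBy_eq_self_iff.2 hN, conjBy_conjBy,
      inv_mul_cancel, conjBy_one]
  have hu'o : orderOf (k⁻¹ * u * k) = 2 := by
    have e := invol_conj hu k⁻¹
    rwa [inv_inv] at e
  obtain ⟨_, ⟨n, hn, rfl⟩, hmem⟩ := h.on_line hu'o hu'
  have e := h.ln_unique hu (g := g) (g' := k * n) hg (by
    rw [mem_conjBy, show (k * n)⁻¹ * u * (k * n) = n⁻¹ * (k⁻¹ * u * k) * n by group]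
    exact mem_conjBy.1 hmem)
  exact ⟨k * n, by rw [← conjBy_conjBy, conjBy_eq_self_iff.2 hn], e.symm⟩

omit h in
theorem card_inf_line {L : Subgroup G} (hL : L ∈ F.lines) : Nat.card (F.A ⊓ L : Subgroup G) = 4 := by
  obtain ⟨n, hn, rfl⟩ := hL
  have e : F.A ⊓ conjBy n F.B = conjBy n F.Z := by
    rw [F.Z_eq]
    conv_lhs => arg 1; rw [← conjBy_eq_self_iff.2 hn]
    exact (Subgroup.map_inf _ _ _ (MulAut.conj n).injective).symm
  rw [e, card_conjBy, F.card_Z]

/-- two points lie on at most one line -/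
theorem line_unique {P Q L L' : Subgroup G} (hne : P ≠ Q) (h1 : F.Inc P L) (h2 : F.Inc Q L) (h3 : F.Inc P L')
    (h4 : F.Inc Q L') : L = L' := by
  suffices key : ∀ {Q L L' : Subgroup G}, F.A ≠ Q → F.Inc F.A L → F.Inc Q L → F.Inc F.A L' → F.Inc Q L' → L = L' by
    obtain ⟨g, hgP, -⟩ := id h1
    have hA : conjBy g⁻¹ P = F.A := by rw [← hgP, conjBy_conjBy, inv_mul_cancel, conjBy_one]
    refine conjBy_injective g⁻¹ (key (Q := conjBy g⁻¹ Q) ?_ (hA ▸ F.inc_conj h1 g⁻¹) (F.inc_conj h2 g⁻¹)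
      (hA ▸ F.inc_conj h3 g⁻¹) (F.inc_conj h4 g⁻¹))
    exact fun e => hne (conjBy_injective g⁻¹ (hA.trans e))
  intro Q L L' hne h1 h2 h3 h4
  by_contra hLL
  obtain ⟨k, hk, -⟩ := id h2
  obtain ⟨n, -, hn⟩ := id h1
  obtain ⟨n', -, hn'⟩ := id h3
  have hinv : ∀ x ∈ F.A, x ≠ 1 → orderOf x = 2 := fun x hx hx1 =>
    orderOf_eq_prime (by rw [pow_two]; exact F.sq_of_mem hx) hx1
  have hint : (F.A ⊓ L) ⊓ (F.A ⊓ L') = ⊥ := (eq_bot_iff_forall _).2 fun x hx => by
    by_contra hx1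
    exact hLL (hn.symm.trans ((h.ln_unique (hinv x hx.1.1 hx1) (hn.symm ▸ hx.1.2 : x ∈ conjBy n F.B)
      (hn'.symm ▸ hx.2.2 : x ∈ conjBy n' F.B)).trans hn'))
  have hAQ : F.A ≤ normalizer (Q : Set G) := by
    have hsup : (F.A ⊓ L) ⊔ (F.A ⊓ L') = F.A := by
      refine eq_of_le_of_card_ge (sup_le inf_le_left inf_le_left) ?_
      have e := CfsgLib.Fusion.card_mul_le_sup_inf (F.A ⊓ L) (F.A ⊓ L')
      rw [card_inf_line (F.inc_A_iff.1 h1), card_inf_line (F.inc_A_iff.1 h3), hint, card_bot, mul_one] at e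
      rw [F.card_A]
      exact e
    rw [← hsup]
    exact sup_le (inf_le_right.trans (F.line_le_normalizer h2)) (inf_le_right.trans (F.line_le_normalizer h4))
  have hdis : Q ⊓ F.A = ⊥ := (eq_bot_iff_forall _).2 fun x hx => by
    by_contra hx1
    exact hne (((conjBy_one F.A).symm.trans (h.pt_unique (hinv x hx.2 hx1) (g := 1) (g' := k)
      (by rw [conjBy_one]; exact hx.2) (hk.symm ▸ hx.1))).trans hk)
  haveI : Fact (Nat.Prime 2) := ⟨Nat.prime_two⟩
  have hQc : Nat.card Q = 16 := by rw [← hk, card_conjBy, F.card_A]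
  have hsup : IsPGroup 2 (Q ⊔ F.A : Subgroup G) :=
    (IsPGroup.of_card (n := 4) (by rw [hQc]; norm_num) : IsPGroup 2 Q).to_sup_of_normal_left'
      (F.T.2.to_le F.A_le) hAQ
  obtain ⟨m, hm⟩ := exists_conj_le_sylow hsup F.T
  have e := CfsgLib.Fusion.card_mul_le_sup_inf Q F.A
  rw [hdis, card_bot, mul_one, hQc, F.card_A] at e
  have hle : Nat.card (Q ⊔ F.A : Subgroup G) ≤ 64 := by
    rw [← F.card_T, ← card_conjBy m]
    refine Subgroup.card_le_of_le ?_
    rintro _ ⟨x, hx, rfl⟩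
    exact hm x hx
  omega

theorem card_lines_at {P : Subgroup G} (hP : P ∈ F.Pts) : {L | F.Inc P L}.ncard = 5 := by
  obtain ⟨g, rfl⟩ := hP
  have e : {L | F.Inc (conjBy g F.A) L} = conjBy g '' F.lines := by
    ext L
    refine ⟨fun hL => ⟨conjBy g⁻¹ L, F.inc_A_iff.1 ?_, by rw [conjBy_conjBy, mul_inv_cancel, conjBy_one]⟩, ?_⟩
    · have := F.inc_conj hL g⁻¹
      rwa [conjBy_conjBy, inv_mul_cancel, conjBy_one] at this
    · rintro ⟨L, hL, rfl⟩
      exact F.inc_conj (F.inc_A_iff.2 hL) g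
  rw [e, Set.ncard_image_of_injective _ (conjBy_injective g), h.card_lines]

theorem card_points_at {L : Subgroup G} (hL : ∃ g, conjBy g F.B = L) : {P | F.Inc P L}.ncard = 5 := by
  have e : {P | F.Inc P L} = {P | F.swap.Inc L P} :=
    Set.ext fun P => ⟨fun x => F.inc_swap x, fun x => F.inc_of_swap x⟩
  rw [e]
  exact h.swap.card_lines_at (by obtain ⟨g, hg⟩ := hL; exact ⟨g, by rw [F.swap_A]; exact hg⟩)

/-- involutions moving the point to a collinear one -/
theorem near_le {Q L : Subgroup G} (hQ : Q ≠ F.A) (hL : L ∈ F.lines) (hQL : F.Inc Q L) :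
    {u : G | orderOf u = 2 ∧ conjBy u F.A = Q}.ncard ≤ 12 := by
  obtain ⟨g, hg, rfl⟩ := hL
  set Q' := conjBy g⁻¹ Q with hQ'
  have hA : conjBy g⁻¹ F.A = F.A := conjBy_eq_self_iff.2 (inv_mem hg)
  have hQ'L : F.Inc Q' F.B := by
    have e := F.inc_conj hQL g⁻¹
    rwa [conjBy_conjBy, inv_mul_cancel, conjBy_one] at e
  have hne : F.A ≠ Q' := fun e => hQ (conjBy_injective g⁻¹ (by rw [hA, ← hQ']; exact e.symm))
  have h1 : F.A ∈ F.swap.lines := ⟨1, one_mem _, by rw [F.swap_B, conjBy_one]⟩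
  have h2 : Q' ∈ F.swap.lines := by
    obtain ⟨k, hkQ, hkB⟩ := hQ'L
    exact ⟨k, by rw [F.swap_A]; exact conjBy_eq_self_iff.1 hkB, by rw [F.swap_B]; exact hkQ⟩
  refine le_trans (Set.ncard_le_ncard_of_injOn (fun u => g⁻¹ * u * g) ?_
    (fun a _ b _ e => mul_left_cancel (mul_right_cancel e)) (Set.toFinite _)) (h.swap.swap_le h1 h2 hne)
  rintro u ⟨hu, hue⟩
  have hu' : orderOf (g⁻¹ * u * g) = 2 := by
    have e := invol_conj hu g⁻¹
    rwa [inv_inv] at e
  have huA : conjBy (g⁻¹ * u * g) F.A = Q' := by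
    rw [← conjBy_conjBy, ← conjBy_conjBy, conjBy_eq_self_iff.2 hg, hue]
  refine ⟨hu', ?_, huA⟩
  rw [F.swap_A]
  refine conjBy_eq_self_iff.1 (h.line_unique hne ?_ ?_ ⟨1, conjBy_one _, conjBy_one _⟩ hQ'L)
  · have e := F.inc_conj hQ'L (g⁻¹ * u * g)
    rwa [show conjBy (g⁻¹ * u * g) Q' = F.A by
      rw [← huA, conjBy_conjBy, invol_mul_self hu', conjBy_one]] at e
  · have e := F.inc_conj (⟨1, conjBy_one _, conjBy_one _⟩ : F.Inc F.A F.B) (g⁻¹ * u * g)
    rwa [huA] at e

/-- involutions moving the point to a non-collinear one -/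
theorem far_le {Q : Subgroup G} (hQ : Q ∈ F.Pts) (hfar : ∀ L ∈ F.lines, ¬ F.Inc Q L) :
    {u : G | orderOf u = 2 ∧ conjBy u F.A = Q}.ncard ≤ 9 := by
  classical
  set K := normalizer (F.A : Set G) ⊓ normalizer (Q : Set G) with hK
  have hnoinv : ∀ z ∈ K, orderOf z ≠ 2 := by
    intro z hz hzo
    obtain ⟨L, hL, hzL⟩ := h.on_line hzo hz.1
    obtain ⟨n, hn, rfl⟩ := id hL
    exact hfar _ hL (h.fix_point hzo hQ hz.2 hzL)
  set S := {u : G | orderOf u = 2 ∧ conjBy u F.A = Q}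
  rcases S.eq_empty_or_nonempty with hS0 | ⟨u₀, hu₀⟩
  · rw [hS0, Set.ncard_empty]; norm_num
  have hle : S.ncard ≤ Nat.card K := by
    rw [← Nat.card_coe_set_eq]
    refine Nat.card_le_card_of_injective (fun u : S => (⟨(u : G) * u₀, ?_⟩ : K))
      fun a b e => Subtype.ext (mul_right_cancel (congrArg Subtype.val e))
    obtain ⟨hu, hue⟩ := u.2
    have huQ : conjBy (u : G) Q = F.A := by rw [← hue, conjBy_conjBy, invol_mul_self hu, conjBy_one]
    have hu₀Q : conjBy u₀ Q = F.A := by rw [← hu₀.2, conjBy_conjBy, invol_mul_self hu₀.1, conjBy_one]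
    exact ⟨conjBy_eq_self_iff.1 (by rw [← conjBy_conjBy, hu₀.2, huQ]),
      conjBy_eq_self_iff.1 (by rw [← conjBy_conjBy, hu₀Q, hue])⟩
  refine hle.trans ?_
  by_contra hbig
  have hodd : Odd (Nat.card K) := by
    rw [← Nat.not_even_iff_odd]
    intro he
    obtain ⟨t, ht, hto⟩ := exists_invol_mem he
    exact hnoinv t ht hto
  have hdvd : Nat.card K ∣ 45 := by
    refine Nat.Coprime.dvd_of_dvd_mul_left ((Nat.coprime_two_right.2 hodd).pow_right 6)
      ((Subgroup.card_dvd_of_le (inf_le_left : K ≤ _)).trans ?_)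
    rw [h.card_NA]
    rcases h.card_CZ with e | e <;> rw [e] <;> norm_num
  have hmem := Nat.mem_divisors.2 ⟨hdvd, by norm_num⟩
  rw [show Nat.divisors 45 = {1, 3, 5, 9, 15, 45} by decide] at hmem
  simp only [Finset.mem_insert, Finset.mem_singleton] at hmem
  have h35 : 3 ∣ Nat.card K ∧ 5 ∣ Nat.card K := by
    rcases hmem with e | e | e | e | e | e <;> rw [e] at hbig ⊢ <;> omega
  haveI := Fact.mk Nat.prime_three
  haveI := Fact.mk (show Nat.Prime 5 by norm_num)
  obtain ⟨s, hs⟩ := exists_prime_orderOf_dvd_card' (G := K) 3 h35.1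
  obtain ⟨f, hf⟩ := exists_prime_orderOf_dvd_card' (G := K) 5 h35.2
  have hcomm : (s : G) * f = f * s := congrArg Subtype.val ((five_central hdvd hf).2 s)
  rw [← Subgroup.orderOf_coe] at hs hf
  obtain ⟨hle1, v, hv, hvo⟩ := h.three_five s.2.1 hs f.2.1 hf hcomm
  obtain ⟨g, rfl⟩ := hQ
  have hback : ∀ x : G, x ∈ normalizer (conjBy g F.A : Set G) → g⁻¹ * x * g ∈ normalizer (F.A : Set G) := fun x hx => by
    rw [← conjBy_eq_self_iff, ← conjBy_conjBy, ← conjBy_conjBy, conjBy_eq_self_iff.2 hx, conjBy_conjBy,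
      inv_mul_cancel, conjBy_one]
  have hord : ∀ x : G, orderOf (g⁻¹ * x * g) = orderOf x := fun x => by
    have e := MulEquiv.orderOf_eq (MulAut.conj g⁻¹) x
    rwa [MulAut.conj_apply, inv_inv] at e
  obtain ⟨hle2, -⟩ := h.three_five (hback _ s.2.2) ((hord _).trans hs) (hback _ f.2.2) ((hord _).trans hf) (by
    rw [show g⁻¹ * (s : G) * g * (g⁻¹ * f * g) = g⁻¹ * (s * f) * g by group, hcomm]; group)
  refine hnoinv v ⟨hle1 hv, ?_⟩ hvo
  have hmem2 : g⁻¹ * v * g ∈ normalizer (F.A : Set G) := hle2 (mem_centralizer_singleton_iff.2 (by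
    rw [show g⁻¹ * v * g * (g⁻¹ * s * g) = g⁻¹ * (v * s) * g by group, mem_centralizer_singleton_iff.1 hv]; group))
  rw [← conjBy_eq_self_iff] at hmem2
  show v ∈ normalizer (conjBy g F.A : Set G)
  rw [← conjBy_eq_self_iff, conjBy_conjBy, show v * g = g * (g⁻¹ * v * g) by group, ← conjBy_conjBy, hmem2]

theorem card_G : Nat.card G = F.Pts.ncard * (15 * Nat.card (centralizer (F.Z : Set G))) := by
  rw [← h.card_NA, ← Subgroup.card_top (G := G), ← Nat.card_coe_set_eq]
  refine card_eq_mul le_top (fun g : (⊤ : Subgroup G) => (⟨conjBy (g : G) F.A, g, rfl⟩ : F.Pts))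
    (fun P => by obtain ⟨g, hg⟩ := P.2; exact ⟨⟨g, mem_top g⟩, Subtype.ext hg⟩) fun a b => ?_
  rw [Subtype.ext_iff, ← conjBy_eq_self_iff]
  constructor
  · intro e
    replace e : conjBy (a : G) F.A = conjBy (b : G) F.A := e
    rw [← conjBy_conjBy, ← e, conjBy_conjBy, inv_mul_cancel, conjBy_one]
  · intro e
    show conjBy (a : G) F.A = conjBy (b : G) F.A
    conv_lhs => rw [← e, conjBy_conjBy, mul_inv_cancel_left]

theorem card_invol : Nat.card G = {u : G | orderOf u = 2}.ncard * Nat.card (centralizer (F.Z : Set G)) := by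
  obtain ⟨z, hz, hz1⟩ := F.exists_Z_ne_one
  have hzo : orderOf z = 2 := orderOf_eq_prime (by rw [pow_two]; exact F.sq_of_mem (F.Z_le_A hz)) hz1
  rw [← Subgroup.card_top (G := G), ← Nat.card_coe_set_eq, ← h.cent_eq hz hz1]
  refine card_eq_mul le_top
    (fun g : (⊤ : Subgroup G) => (⟨(g : G) * z * (g : G)⁻¹, invol_conj hzo g⟩ : {u : G | orderOf u = 2}))
    (fun u => by obtain ⟨g, hg⟩ := h.invol_conj_to hz hz1 u.2; exact ⟨⟨g, mem_top g⟩, Subtype.ext hg⟩) fun a b => ?_
  rw [Subtype.ext_iff, mem_centralizer_singleton_iff]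
  constructor
  · intro e
    replace e : (a : G) * z * (a : G)⁻¹ = b * z * (b : G)⁻¹ := e
    calc (a : G)⁻¹ * b * z = (a : G)⁻¹ * (b * z * (b : G)⁻¹) * b := by group
      _ = (a : G)⁻¹ * (a * z * (a : G)⁻¹) * b := by rw [e]
      _ = z * ((a : G)⁻¹ * b) := by group
  · intro e
    show (a : G) * z * (a : G)⁻¹ = b * z * (b : G)⁻¹
    calc (a : G) * z * (a : G)⁻¹ = a * (z * ((a : G)⁻¹ * b)) * (b : G)⁻¹ := by group
      _ = a * ((a : G)⁻¹ * b * z) * (b : G)⁻¹ := by rw [e]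
      _ = b * z * (b : G)⁻¹ := by group

/-- twenty one points, pairwise collinear -/
theorem plane_facts : F.Pts.ncard = 21 ∧ {u : G | orderOf u = 2}.ncard = 315 ∧
    ∀ P Q : Subgroup G, P ∈ F.Pts → Q ∈ F.Pts → P ≠ Q → ∃ L, F.Inc P L ∧ F.Inc Q L := by
  classical
  haveI := Fintype.ofFinite G
  set n := F.Pts.ncard with hn
  have hI : {u : G | orderOf u = 2}.ncard = 15 * n := by
    have e := h.card_G.symm.trans h.card_invol
    rcases h.card_CZ with hc | hc <;> rw [hc] at e <;> omega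
  let linesF : Finset (Subgroup G) := (Set.toFinite F.lines).toFinset
  have hlines : linesF.card = 5 := by rw [← Set.ncard_eq_toFinset_card, h.card_lines]
  have hmemlines : ∀ L, L ∈ linesF ↔ L ∈ F.lines := fun L => Set.Finite.mem_toFinset _
  let others : Subgroup G → Finset (Subgroup G) := fun L =>
    (Set.toFinite {Q : Subgroup G | F.Inc Q L ∧ Q ≠ F.A}).toFinset
  have hmemo : ∀ L Q, Q ∈ others L ↔ F.Inc Q L ∧ Q ≠ F.A := fun L Q => Set.Finite.mem_toFinset _
  have hothers : ∀ L ∈ linesF, (others L).card = 4 := by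
    intro L hL
    rw [hmemlines] at hL
    rw [← Set.ncard_eq_toFinset_card,
      show {Q : Subgroup G | F.Inc Q L ∧ Q ≠ F.A} = {Q | F.Inc Q L} \ {F.A} from rfl,
      Set.ncard_sdiff_singleton_of_mem (show F.A ∈ {Q : Subgroup G | F.Inc Q L} from F.inc_A_iff.2 hL),
      h.card_points_at (by obtain ⟨g, -, hg⟩ := hL; exact ⟨g, hg⟩)]
  let near : Finset (Subgroup G) := linesF.biUnion others
  have hnear : near.card = 20 := by
    rw [Finset.card_biUnion, Finset.sum_congr rfl hothers, Finset.sum_const, hlines, smul_eq_mul]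
    intro L hL L' hL' hne
    refine Finset.disjoint_left.2 fun Q hQ hQ' => hne ?_
    rw [hmemo] at hQ hQ'
    exact h.line_unique hQ.2.symm (F.inc_A_iff.2 ((hmemlines L).1 hL)) hQ.1 (F.inc_A_iff.2 ((hmemlines L').1 hL')) hQ'.1
  let ptsF : Finset (Subgroup G) := (Set.toFinite F.Pts).toFinset
  have hptsF : ptsF.card = n := by rw [hn, Set.ncard_eq_toFinset_card]
  have hmemp : ∀ Q, Q ∈ ptsF ↔ Q ∈ F.Pts := fun Q => Set.Finite.mem_toFinset _
  have hnearp : insert F.A near ⊆ ptsF := by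
    intro Q hQ
    rw [hmemp]
    rcases Finset.mem_insert.1 hQ with rfl | hQ
    · exact ⟨1, conjBy_one _⟩
    · obtain ⟨L, -, hQL⟩ := Finset.mem_biUnion.1 hQ
      obtain ⟨g, hg, -⟩ := ((hmemo L Q).1 hQL).1
      exact ⟨g, hg⟩
  have hAnear : F.A ∉ near := fun hh => by
    obtain ⟨L, -, hL⟩ := Finset.mem_biUnion.1 hh
    exact ((hmemo L F.A).1 hL).2 rfl
  have h21 : 21 ≤ n := by
    have := Finset.card_le_card hnearp
    rw [Finset.card_insert_of_notMem hAnear, hnear, hptsF] at this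
    omega
  let IF : Finset G := Finset.univ.filter fun u => orderOf u = 2
  have hIF : IF.card = {u : G | orderOf u = 2}.ncard := by
    rw [Set.ncard_eq_toFinset_card']
    refine congrArg Finset.card ?_
    ext u
    simp [IF]
  let fib : Subgroup G → Finset G := fun Q => IF.filter fun u => conjBy u F.A = Q
  have hfib : ∀ Q, (fib Q).card = {u : G | orderOf u = 2 ∧ conjBy u F.A = Q}.ncard := fun Q => by
    rw [Set.ncard_eq_toFinset_card']
    refine congrArg Finset.card ?_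
    ext u
    simp [fib, IF]
  have hfixA : (fib F.A).card ≤ 75 := by
    let piece : Subgroup G → Finset G := fun L =>
      (Finset.univ.filter fun u => u ∈ L) \ (Finset.univ.filter fun u => u ∈ F.A)
    have hpiece : ∀ L ∈ linesF, (piece L).card ≤ 12 := by
      intro L hL
      rw [hmemlines] at hL
      rw [Finset.card_sdiff]
      have h1 : (Finset.univ.filter fun u => u ∈ L).card = 16 := by
        rw [← Fintype.card_subtype, ← Nat.card_eq_fintype_card]
        show Nat.card L = 16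
        obtain ⟨g, -, rfl⟩ := hL
        rw [card_conjBy, F.card_B]
      have h2 : ((Finset.univ.filter fun u => u ∈ F.A) ∩ (Finset.univ.filter fun u => u ∈ L)).card = 4 := by
        rw [← Finset.filter_and, ← Fintype.card_subtype, ← Nat.card_eq_fintype_card]
        exact card_inf_line hL
      rw [h1, h2]
    have hsub : fib F.A ⊆ (Finset.univ.filter fun u => u ∈ F.A).erase 1 ∪ linesF.biUnion piece := by
      intro u hu
      simp only [fib, IF, Finset.mem_filter, Finset.mem_univ, true_and] at hu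
      by_cases huA : u ∈ F.A
      · refine Finset.mem_union_left _ (Finset.mem_erase.2 ⟨invol_ne_one hu.1, ?_⟩)
        simp [huA]
      · obtain ⟨L, hL, huL⟩ := h.on_line hu.1 (conjBy_eq_self_iff.1 hu.2)
        refine Finset.mem_union_right _ (Finset.mem_biUnion.2 ⟨L, (hmemlines L).2 hL, ?_⟩)
        simp only [piece, Finset.mem_sdiff, Finset.mem_filter, Finset.mem_univ, true_and]
        exact ⟨huL, huA⟩
    refine (Finset.card_le_card hsub).trans ((Finset.card_union_le _ _).trans ?_)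
    have h1 : ((Finset.univ.filter fun u => u ∈ F.A).erase 1).card = 15 := by
      rw [Finset.card_erase_of_mem (by simp), ← Fintype.card_subtype, ← Nat.card_eq_fintype_card]
      exact (congrArg (· - 1) F.card_A)
    have h2 : (linesF.biUnion piece).card ≤ 60 := by
      refine Finset.card_biUnion_le.trans ((Finset.sum_le_card_nsmul _ _ 12 hpiece).trans ?_)
      rw [hlines]; rfl
    omega
  have hsum : IF.card = ∑ Q ∈ ptsF, (fib Q).card :=
    Finset.card_eq_sum_card_fiberwise fun u _ => (hmemp _).2 ⟨u, rfl⟩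
  have hbnd : IF.card ≤ 75 + 20 * 12 + (n - 21) * 9 := by
    rw [hsum, ← Finset.sum_sdiff hnearp, Finset.sum_insert hAnear]
    have hfar : ∑ Q ∈ ptsF \ insert F.A near, (fib Q).card ≤ (n - 21) * 9 := by
      refine (Finset.sum_le_card_nsmul _ _ 9 fun Q hQ => ?_).trans ?_
      · rw [Finset.mem_sdiff, Finset.mem_insert, not_or] at hQ
        rw [hfib]
        refine h.far_le ((hmemp Q).1 hQ.1) fun L hL hQL => hQ.2.2 ?_
        exact Finset.mem_biUnion.2 ⟨L, (hmemlines L).2 hL, (hmemo L Q).2 ⟨hQL, hQ.2.1⟩⟩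
      · rw [Finset.card_sdiff_of_subset hnearp, Finset.card_insert_of_notMem hAnear, hnear, hptsF, smul_eq_mul]
    have hnr : ∑ Q ∈ near, (fib Q).card ≤ 20 * 12 := by
      refine (Finset.sum_le_card_nsmul _ _ 12 fun Q hQ => ?_).trans ?_
      · obtain ⟨L, hL, hQL⟩ := Finset.mem_biUnion.1 hQ
        rw [hfib]
        exact h.near_le ((hmemo L Q).1 hQL).2 ((hmemlines L).1 hL) ((hmemo L Q).1 hQL).1
      · rw [hnear, smul_eq_mul]
    omega
  have hn21 : n = 21 := by omega
  refine ⟨hn21, by omega, fun P Q hP hQ hne => ?_⟩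
  obtain ⟨g, rfl⟩ := hP
  have hall : insert F.A near = ptsF := Finset.eq_of_subset_of_card_le hnearp (by
    rw [Finset.card_insert_of_notMem hAnear, hnear, hptsF, hn21])
  obtain ⟨k, rfl⟩ := hQ
  set Q' := conjBy (g⁻¹ * k) F.A
  have hQ' : Q' ≠ F.A := fun e => hne (by
    have h2 := congrArg (conjBy g) e
    rw [conjBy_conjBy, mul_inv_cancel_left] at h2
    exact h2.symm)
  have hmem : Q' ∈ insert F.A near := hall ▸ (hmemp Q').2 ⟨_, rfl⟩
  rcases Finset.mem_insert.1 hmem with e | e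
  · exact absurd e hQ'
  obtain ⟨L, hL, hQL⟩ := Finset.mem_biUnion.1 e
  refine ⟨conjBy g L, F.inc_conj (F.inc_A_iff.2 ((hmemlines L).1 hL)) g, ?_⟩
  have h3 := F.inc_conj ((hmemo L Q').1 hQL).1 g
  rwa [conjBy_conjBy, mul_inv_cancel_left] at h3

end PlaneHyp

end CfsgLib.Invol.L34Type
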