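import Cfsg.Agent.Lib.Invol.L34Type.Plane.Local

/-!
# The five lines through a point
-/

set_option autoImplicit false
set_option linter.unusedSectionVars false
set_option linter.style.haveILetI false

namespace CfsgLib.Invol.L34Type

open Subgroup
open CfsgLib.Invol
open CfsgLib.Coprime (conjBy mem_conjBy conj_mem_conjBy conjBy_eq_self_iff conjBy_conjBy conjBy_one)

universe u

variable {G : Type u} [Group G] [Finite G]

namespace Frame

variable (F : Frame G)

/-- The lines through the point `A`. -/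
def lines : Set (Subgroup G) := {L | ∃ n ∈ normalizer (F.A : Set G), conjBy n F.B = L}

/-- Fixing all five lines through the point `A`. -/
def Fix (k : G) : Prop := k ∈ normalizer (F.A : Set G) ∧ ∀ L ∈ F.lines, conjBy k L = L

theorem B_mem_lines : F.B ∈ F.lines := ⟨1, one_mem _, conjBy_one _⟩

theorem lines_conj {n : G} (hn : n ∈ normalizer (F.A : Set G)) {L : Subgroup G} (hL : L ∈ F.lines) :
    conjBy n L ∈ F.lines := by
  obtain ⟨m, hm, rfl⟩ := hL
  exact ⟨n * m, mul_mem hn hm, (conjBy_conjBy _ _ _).symm⟩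

theorem Fix.mem_NT {F : Frame G} {k : G} (hk : F.Fix k) : k ∈ normalizer ((F.T : Subgroup G) : Set G) :=
  F.mem_NT hk.1 (conjBy_eq_self_iff.1 (hk.2 _ F.B_mem_lines))

theorem Fix.conj {F : Frame G} {k n : G} (hk : F.Fix k) (hn : n ∈ normalizer (F.A : Set G)) :
    F.Fix (n * k * n⁻¹) := by
  refine ⟨mul_mem (mul_mem hn hk.1) (inv_mem hn), fun L hL => ?_⟩
  rw [← conjBy_conjBy, ← conjBy_conjBy, hk.2 _ (F.lines_conj (inv_mem hn) hL), conjBy_conjBy, mul_inv_cancel,
    conjBy_one]

end Frame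

theorem conjBy_injective (g : G) : Function.Injective (conjBy g) :=
  Subgroup.map_injective (MulAut.conj g).injective

namespace PlaneHyp

variable {F : Frame G} (h : PlaneHyp F)
include h

theorem card_lines : F.lines.ncard = 5 := by
  have e := card_eq_mul (le_inf F.N_T_le_A le_rfl |>.trans inf_le_left)
    (fun n : normalizer (F.A : Set G) => (⟨conjBy (n : G) F.B, n, n.2, rfl⟩ : F.lines)) (fun L => by
      obtain ⟨n, hn, e⟩ := L.2
      exact ⟨⟨n, hn⟩, Subtype.ext e⟩)
    (C := normalizer ((F.T : Subgroup G) : Set G)) fun a b => by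
      rw [Subtype.ext_iff]
      constructor
      · intro e
        replace e : conjBy (a : G) F.B = conjBy (b : G) F.B := e
        refine F.mem_NT (mul_mem (inv_mem a.2) b.2) (conjBy_eq_self_iff.1 ?_)
        rw [← conjBy_conjBy, ← e, conjBy_conjBy, inv_mul_cancel, conjBy_one]
      · intro e
        show conjBy (a : G) F.B = conjBy (b : G) F.B
        conv_lhs => rw [← conjBy_eq_self_iff.2 (F.N_T_le_B e), conjBy_conjBy, mul_inv_cancel_left]
  rw [h.card_NA, h.card_NT, Nat.card_coe_set_eq] at e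
  rcases h.card_CZ with hc | hc <;> rw [hc] at e <;> omega

/-- an element of `T` outside `A` fixes only the line `B` -/
theorem T_fix {t n : G} (ht : t ∈ (F.T : Subgroup G)) (htA : t ∉ F.A) (hn : n ∈ normalizer (F.A : Set G))
    (hfix : conjBy t (conjBy n F.B) = conjBy n F.B) : conjBy n F.B = F.B := by
  refine conjBy_eq_self_iff.2 ?_
  obtain ⟨z, hz, hz1⟩ := F.exists_Z_ne_one
  have hv : n⁻¹ * t * n ∈ normalizer ((F.T : Subgroup G) : Set G) := by
    refine F.mem_NT (mul_mem (mul_mem (inv_mem hn) (F.T_le_normalizer_A ht)) hn) (conjBy_eq_self_iff.1 ?_)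
    rw [← conjBy_conjBy, ← conjBy_conjBy, hfix, conjBy_conjBy, inv_mul_cancel, conjBy_one]
  have hv' : n⁻¹ * t * n ∈ (F.T : Subgroup G) := by
    have e : n⁻¹ * t * n = n⁻¹ * t * (n⁻¹)⁻¹ := by rw [inv_inv]
    rw [e] at hv ⊢
    exact F.conj_mem_T ht hv
  refine F.N_T_le_B (h.mem_NT_of_conj hz hz1 (F.mem_Z_of_commute ht htA
    ((mem_normalizer_iff.1 hn z).1 (F.Z_le_A hz)) ?_))
  calc t * (n * z * n⁻¹) = n * (n⁻¹ * t * n * z) * n⁻¹ := by group
    _ = n * (z * (n⁻¹ * t * n)) * n⁻¹ := by rw [F.Z_central hz hv']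
    _ = n * z * n⁻¹ * t := by group

omit h in
theorem exists_conj_T {x : G} (hx : x ∈ normalizer (F.A : Set G)) {k : ℕ} (h2 : x ^ 2 ^ k = 1) :
    ∃ c ∈ normalizer (F.A : Set G), c * x * c⁻¹ ∈ (F.T : Subgroup G) := by
  obtain ⟨a, -, ha⟩ := (Nat.dvd_prime_pow Nat.prime_two).1 (orderOf_dvd_of_pow_eq_one h2)
  obtain ⟨c, hc, hcT⟩ := exists_conj_into F.T.2 F.not_dvd_index F.T_le_normalizer_A (zpowers_le.2 hx)
    (IsPGroup.of_card (n := a) (by rw [Nat.card_zpowers, ha]))
  exact ⟨c, hc, hcT x (mem_zpowers x)⟩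

omit h in
theorem A_fix {a : G} (ha : a ∈ F.A) : F.Fix a := by
  refine ⟨le_normalizer ha, fun L hL => ?_⟩
  obtain ⟨n, hn, rfl⟩ := hL
  have h1 : n⁻¹ * a * n ∈ F.A := by
    have := (mem_normalizer_iff.1 (inv_mem hn) a).1 ha
    rwa [inv_inv] at this
  conv_rhs => rw [← conjBy_eq_self_iff.2 (F.N_T_le_B (le_normalizer (F.A_le h1))), conjBy_conjBy,
    show n * (n⁻¹ * a * n) = a * n by group, ← conjBy_conjBy]

/-- a two-element fixing two lines fixes all -/
theorem two_fix {x : G} (hx : x ∈ normalizer (F.A : Set G)) {k : ℕ} (h2 : x ^ 2 ^ k = 1) {L L' : Subgroup G}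
    (hL : L ∈ F.lines) (hL' : L' ∈ F.lines) (hne : L ≠ L') (e : conjBy x L = L) (e' : conjBy x L' = L') :
    x ∈ F.A := by
  obtain ⟨c, hc, hcT⟩ := exists_conj_T (F := F) hx h2
  by_contra hxA
  have hcA : c * x * c⁻¹ ∉ F.A := fun hh => hxA ((mem_normalizer_iff.1 hc x).2 hh)
  refine hne (conjBy_injective c ?_)
  have key : ∀ M ∈ F.lines, conjBy x M = M → conjBy c M = F.B := fun M hM eM => by
    obtain ⟨n, hn, e0⟩ := F.lines_conj hc hM
    rw [← e0]
    refine h.T_fix hcT hcA hn ?_
    rw [e0, conjBy_conjBy, inv_mul_cancel_right, ← conjBy_conjBy, eM]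
  rw [key L hL e, key L' hL' e']

/-- fixing three lines is fixing all five -/
theorem fix_three {k : G} (hk : k ∈ normalizer (F.A : Set G)) {L₁ L₂ L₃ : Subgroup G}
    (h1 : L₁ ∈ F.lines) (h2 : L₂ ∈ F.lines) (h3 : L₃ ∈ F.lines) (h12 : L₁ ≠ L₂) (h13 : L₁ ≠ L₃) (h23 : L₂ ≠ L₃)
    (e1 : conjBy k L₁ = L₁) (e2 : conjBy k L₂ = L₂) (e3 : conjBy k L₃ = L₃) : F.Fix k := by
  classical
  have hsq : ∀ L ∈ F.lines, conjBy (k * k) L = L := by
    intro L hL
    rw [← conjBy_conjBy]
    set M := conjBy k L with hM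
    have hMl := F.lines_conj hk hL
    by_cases hin : L = L₁ ∨ L = L₂ ∨ L = L₃
    · rcases hin with rfl | rfl | rfl
      · rw [hM, e1, e1]
      · rw [hM, e2, e2]
      · rw [hM, e3, e3]
    simp only [not_or] at hin
    obtain ⟨n1, n2, n3⟩ := hin
    by_cases hfix : M = L
    · rw [hfix]; exact hfix
    have m1 : M ≠ L₁ := fun e => n1 (conjBy_injective k (e.trans e1.symm))
    have m2 : M ≠ L₂ := fun e => n2 (conjBy_injective k (e.trans e2.symm))
    have m3 : M ≠ L₃ := fun e => n3 (conjBy_injective k (e.trans e3.symm))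
    have q1 : conjBy k M ≠ L₁ := fun e => m1 (conjBy_injective k (e.trans e1.symm))
    have q2 : conjBy k M ≠ L₂ := fun e => m2 (conjBy_injective k (e.trans e2.symm))
    have q3 : conjBy k M ≠ L₃ := fun e => m3 (conjBy_injective k (e.trans e3.symm))
    have q4 : conjBy k M ≠ M := fun e => hfix (conjBy_injective k e)
    have hsub : ({L₁, L₂, L₃, L, M} : Finset (Subgroup G)) = (Set.toFinite F.lines).toFinset := by
      refine Finset.eq_of_subset_of_card_le (fun X hX => ?_) ?_
      · simp only [Finset.mem_insert, Finset.mem_singleton] at hX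
        rw [Set.Finite.mem_toFinset]
        rcases hX with rfl | rfl | rfl | rfl | rfl <;> assumption
      · rw [← Set.ncard_eq_toFinset_card, h.card_lines, Finset.card_insert_of_notMem, Finset.card_insert_of_notMem,
          Finset.card_insert_of_notMem, Finset.card_insert_of_notMem, Finset.card_singleton]
        all_goals simp only [Finset.mem_insert, Finset.mem_singleton, not_or]
        · exact Ne.symm hfix
        · exact ⟨Ne.symm n3, m3.symm⟩
        · exact ⟨h23, Ne.symm n2, m2.symm⟩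
        · exact ⟨h12, h13, Ne.symm n1, m1.symm⟩
    have hmem : conjBy k M ∈ ({L₁, L₂, L₃, L, M} : Finset (Subgroup G)) := by
      rw [hsub, Set.Finite.mem_toFinset]; exact F.lines_conj hk hMl
    simp only [Finset.mem_insert, Finset.mem_singleton] at hmem
    rcases hmem with e | e | e | e | e
    · exact absurd e q1
    · exact absurd e q2
    · exact absurd e q3
    · exact e
    · exact absurd e q4
  have hpow : ∀ j : ℕ, ∀ L ∈ F.lines, conjBy ((k * k) ^ j) L = L := by
    intro j
    induction j with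
    | zero => intro L _; rw [pow_zero, conjBy_one]
    | succ j ih => intro L hL; rw [pow_succ, ← conjBy_conjBy, hsq L hL, ih L hL]
  obtain ⟨a, m, hm, hord⟩ := Nat.exists_eq_two_pow_mul_odd (orderOf_pos k).ne'
  obtain ⟨j, rfl⟩ := hm
  have h2p : (k ^ (2 * j + 1)) ^ 2 ^ a = 1 := by rw [← pow_mul, mul_comm, ← hord, pow_orderOf_eq_one]
  have hfix3 : ∀ L ∈ F.lines, conjBy k L = L → conjBy (k ^ (2 * j + 1)) L = L := fun L hL e => by
    rw [pow_succ, pow_mul, pow_two, ← conjBy_conjBy, e, hpow j L hL]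
  have hA := h.two_fix (pow_mem hk (2 * j + 1)) h2p h1 h2 h12 (hfix3 L₁ h1 e1) (hfix3 L₂ h2 e2)
  refine ⟨hk, fun L hL => ?_⟩
  have e := (A_fix (F := F) hA).2 L hL
  rw [pow_succ', pow_mul, pow_two, ← conjBy_conjBy, hpow j L hL] at e
  exact e

/-- an element of order five moves every line -/
theorem five_move {f : G} (hf : f ∈ normalizer (F.A : Set G)) (hfo : orderOf f = 5) {L : Subgroup G}
    (hL : L ∈ F.lines) : conjBy f L ≠ L := by
  intro e
  obtain ⟨n, hn, rfl⟩ := hL
  have hmem : n⁻¹ * f * n ∈ normalizer ((F.T : Subgroup G) : Set G) := by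
    refine F.mem_NT (mul_mem (mul_mem (inv_mem hn) hf) hn) (conjBy_eq_self_iff.1 ?_)
    rw [← conjBy_conjBy, ← conjBy_conjBy, e, conjBy_conjBy, inv_mul_cancel, conjBy_one]
  have hd := Subgroup.orderOf_dvd_natCard _ hmem
  have ho : orderOf (n⁻¹ * f * n) = 5 := by
    rw [← hfo]
    have e1 := MulEquiv.orderOf_eq (MulAut.conj n⁻¹) f
    rwa [MulAut.conj_apply, inv_inv] at e1
  rw [ho, h.card_NT] at hd
  rcases h.card_CZ with hc | hc <;> rw [hc] at hd <;> omega

/-- an element of order three centralising one of order five in the normaliser fixes all lines -/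
theorem fix_of_commute_five {s f : G} (hs : s ∈ normalizer (F.A : Set G)) (hso : orderOf s = 3)
    (hf : f ∈ normalizer (F.A : Set G)) (hfo : orderOf f = 5) (hc : s * f = f * s) : F.Fix s := by
  classical
  haveI := Fact.mk Nat.prime_three
  haveI : Fintype F.lines := Fintype.ofFinite _
  let σ : Equiv.Perm F.lines :=
    { toFun := fun L => ⟨conjBy s L.1, F.lines_conj hs L.2⟩
      invFun := fun L => ⟨conjBy s⁻¹ L.1, F.lines_conj (inv_mem hs) L.2⟩
      left_inv := fun L => Subtype.ext (by simp [conjBy_conjBy, conjBy_one])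
      right_inv := fun L => Subtype.ext (by simp [conjBy_conjBy, conjBy_one]) }
  have hσ : σ ^ 3 ^ 1 = 1 := by
    refine Equiv.ext fun L => Subtype.ext ?_
    show conjBy s (conjBy s (conjBy s L.1)) = L.1
    rw [conjBy_conjBy, conjBy_conjBy, show s * s * s = 1 by rw [← pow_three', ← hso]; exact pow_orderOf_eq_one s,
      conjBy_one]
  have h5 : ¬ 3 ∣ Fintype.card F.lines := by
    rw [← Nat.card_eq_fintype_card, Nat.card_coe_set_eq, h.card_lines]; norm_num
  obtain ⟨⟨L, hL⟩, hfixL⟩ := Equiv.Perm.exists_fixed_point_of_prime h5 hσ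
  have e1 : conjBy s L = L := congrArg Subtype.val hfixL
  have e2 : conjBy s (conjBy f L) = conjBy f L := by rw [conjBy_conjBy, hc, ← conjBy_conjBy, e1]
  have e3 : conjBy s (conjBy f (conjBy f L)) = conjBy f (conjBy f L) := by
    rw [conjBy_conjBy s, hc, ← conjBy_conjBy, e2]
  have hLf := F.lines_conj hf hL
  have hLff := F.lines_conj hf hLf
  refine h.fix_three hs hL hLf hLff (h.five_move hf hfo hL).symm ?_ (h.five_move hf hfo hLf).symm e1 e2 e3
  intro e
  refine h.five_move hf hfo hL ?_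
  have e5 : conjBy f (conjBy f (conjBy f (conjBy f (conjBy f L)))) = L := by
    simp only [conjBy_conjBy]
    rw [show f * (f * (f * (f * f))) = f ^ 5 by simp [pow_succ, mul_assoc], ← hfo, pow_orderOf_eq_one, conjBy_one]
  rwa [← e, ← e] at e5

/-- involutions exchanging two lines through `A` -/
theorem swap_le {L₁ L₂ : Subgroup G} (h1 : L₁ ∈ F.lines) (h2 : L₂ ∈ F.lines) (h12 : L₁ ≠ L₂) :
    {u : G | orderOf u = 2 ∧ u ∈ normalizer (F.A : Set G) ∧ conjBy u L₁ = L₂}.ncard ≤ 12 := by
  classical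
  haveI := Fintype.ofFinite G
  set S := {u : G | orderOf u = 2 ∧ u ∈ normalizer (F.A : Set G) ∧ conjBy u L₁ = L₂}
  let R : Finset (Subgroup G) := ((Set.toFinite F.lines).toFinset.erase L₁).erase L₂
  have hR : R.card = 3 := by
    rw [Finset.card_erase_of_mem (Finset.mem_erase.2 ⟨h12.symm, (Set.Finite.mem_toFinset _).2 h2⟩),
      Finset.card_erase_of_mem ((Set.Finite.mem_toFinset _).2 h1), ← Set.ncard_eq_toFinset_card, h.card_lines]
  obtain ⟨L₃, hL₃⟩ := Finset.card_pos.1 (by omega : 0 < R.card)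
  simp only [R, Finset.mem_erase, Set.Finite.mem_toFinset] at hL₃
  obtain ⟨h32, h31, h3⟩ := hL₃
  have hinv : ∀ u ∈ S, ∀ L, conjBy u (conjBy u L) = L := fun u hu L => by
    rw [conjBy_conjBy, invol_mul_self hu.1, conjBy_one]
  let SF := (Set.toFinite S).toFinset
  have hmaps : ∀ u ∈ SF, conjBy u L₃ ∈ R := by
    intro u hu
    rw [Set.Finite.mem_toFinset] at hu
    simp only [R, Finset.mem_erase, Set.Finite.mem_toFinset]
    refine ⟨fun e => h31 (conjBy_injective u (e.trans hu.2.2.symm)), fun e => h32 ?_, F.lines_conj hu.2.1 h3⟩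
    rw [← hinv u hu L₃, e, hu.2.2]
  have hfib : ∀ M, (SF.filter fun u => conjBy u L₃ = M).card ≤ 4 := by
    intro M
    rcases (SF.filter fun u => conjBy u L₃ = M).eq_empty_or_nonempty with h0 | ⟨v, hv⟩
    · rw [h0]; simp
    rw [Finset.mem_filter, Set.Finite.mem_toFinset] at hv
    obtain ⟨⟨hvo, hvN, hvL⟩, hvM⟩ := hv
    obtain ⟨c, hc, hcT⟩ := exists_conj_T (F := F) hvN (k := 1) (by rw [pow_one, pow_two]; exact invol_mul_self hvo)
    have hcA : c * v * c⁻¹ ∉ F.A := fun hh => h12 (((A_fix (F := F) ((mem_normalizer_iff.1 hc v).2 hh)).2 L₁ h1).symm.trans hvL)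
    have hcard : (Finset.univ.filter fun x => x ∈ F.Z).card = 4 := by
      rw [← Fintype.card_subtype, ← Nat.card_eq_fintype_card]; exact F.card_Z
    rw [← hcard]
    refine Finset.card_le_card_of_injOn (fun u => c * (u * v) * c⁻¹) (fun u hu => ?_)
      (fun a _ b _ e => mul_right_cancel (mul_left_cancel (mul_right_cancel e)))
    rw [Finset.mem_coe, Finset.mem_filter, Set.Finite.mem_toFinset] at hu
    obtain ⟨⟨huo, huN, huL⟩, huM⟩ := hu
    simp only [Finset.coe_filter, Finset.mem_univ, true_and, Set.mem_setOf_eq]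
    have hvS : v ∈ S := ⟨hvo, hvN, hvL⟩
    have huS : u ∈ S := ⟨huo, huN, huL⟩
    have hk : F.Fix (u * v) := by
      refine h.fix_three (mul_mem huN hvN) h1 h2 (F.lines_conj huN h3) h12 ?_ ?_ ?_ ?_ ?_
      · exact fun e => h32 (by rw [← hinv u huS L₃, ← e, huL])
      · exact fun e => h31 (conjBy_injective u (e.symm.trans huL.symm))
      · rw [← conjBy_conjBy, hvL, ← huL, hinv u huS]
      · conv_lhs => rw [← conjBy_conjBy, ← hvL, hinv v hvS, huL]
      · rw [← conjBy_conjBy, huM, ← hvM, hinv v hvS, hvM, ← huM]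
    set k := c * (u * v) * c⁻¹ with hkdef
    set w := c * v * c⁻¹ with hwdef
    have hkF : F.Fix k := hk.conj hc
    have hw2 : w * w = 1 := invol_mul_self (invol_conj hvo c)
    have hkw : k * w = c * u * c⁻¹ := by
      calc k * w = c * (u * (v * v)) * c⁻¹ := by rw [hkdef, hwdef]; group
        _ = c * u * c⁻¹ := by rw [invol_mul_self hvo, mul_one]
    have hkw2 : (k * w) * (k * w) = 1 := by rw [hkw]; exact invol_mul_self (invol_conj huo c)
    have hsq : k * k = k * w * k⁻¹ * w := by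
      have e : w * k⁻¹ * w = k := by
        have e' : k * w * k = w := by
          calc k * w * k = k * w * (k * w) * w⁻¹ := by group
            _ = w := by rw [hkw2, one_mul, inv_eq_of_mul_eq_one_right hw2]
        calc w * k⁻¹ * w = (k * w * k) * k⁻¹ * w := by rw [e']
          _ = k * (w * w) := by group
          _ = k := by rw [hw2, mul_one]
      conv_lhs => arg 2; rw [← e]
      group
    have hk2T : k * k ∈ (F.T : Subgroup G) := by
      rw [hsq]
      exact mul_mem ((mem_normalizer_iff.1 hkF.mem_NT w).1 hcT) hcT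
    have hkT : k ∈ (F.T : Subgroup G) := F.two_mem hkF.mem_NT (k := 7) (by
      rw [pow_succ', pow_mul, pow_two, F.pow_two_T hk2T])
    have hkA : k ∈ F.A := by
      obtain ⟨L', hL', hne'⟩ : ∃ L' ∈ F.lines, L' ≠ F.B := by
        by_cases e : L₁ = F.B
        · exact ⟨L₂, h2, e ▸ h12.symm⟩
        · exact ⟨L₁, h1, e⟩
      exact h.two_fix hkF.1 (k := 6) (F.pow_two_T hkT) F.B_mem_lines hL' hne'.symm (hkF.2 _ F.B_mem_lines) (hkF.2 _ hL')
    refine F.mem_Z_of_commute hcT hcA hkA ?_
    have hk1 := F.sq_of_mem hkA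
    calc w * k = (k * k) * (w * k) * (w * w) := by rw [hk1, hw2, one_mul, mul_one]
      _ = k * (k * w * (k * w)) * w := by group
      _ = k * w := by rw [hkw2, mul_one]
  have htot := Finset.card_le_mul_card_image_of_maps_to hmaps 4 fun b _ => hfib b
  rw [hR] at htot
  rw [Set.ncard_eq_toFinset_card]
  exact htot

/-- an involution normalising `A` is in `A` or on a line through it -/
theorem normalizing_cases {u : G} (hu : orderOf u = 2) (hN : u ∈ normalizer (F.A : Set G)) :
    u ∈ F.A ∨ ∃ L ∈ F.lines, u ∈ L := by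
  obtain ⟨c, hc, hcT⟩ := exists_conj_T (F := F) hN (k := 1) (by rw [pow_one, pow_two]; exact invol_mul_self hu)
  rcases F.invol_cases hcT (invol_mul_self (invol_conj hu c)) with hA | hB
  · exact Or.inl ((mem_normalizer_iff.1 hc u).2 hA)
  · exact Or.inr ⟨conjBy c⁻¹ F.B, ⟨c⁻¹, inv_mem hc, rfl⟩, mem_conjBy.2 (by rw [inv_inv]; exact hB)⟩

end PlaneHyp

end CfsgLib.Invol.L34Type
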