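import Cfsg.Agent.Lib.Invol.L34Type.Scalar
import Cfsg.Agent.Lib.Fusion.OffenderReplacement

/-!
# The normalisers of the Sylow subgroup and of one side, under the hypotheses of the plane

All involutions are conjugate, each lies in one conjugate of each side, and the five conjugates of
`B` under the normaliser of `A` are permuted freely by `T / A` off `B`.
-/

set_option autoImplicit false
set_option linter.unusedSectionVars false
set_option linter.style.haveILetI false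

namespace CfsgLib.Invol.L34Type

open Subgroup
open CfsgLib.Invol
open CfsgLib.Invol.HeisFour (V fm H4)
open CfsgLib.Coprime (conjBy mem_conjBy conjBy_eq_self_iff conjBy_conjBy)

universe u

theorem fm_fix : ∀ k c : V, c ≠ 0 → fm k c = c → k = (1, 0) := by decide +kernel

theorem fm_inv_unique : ∀ l m m' : V, fm l m = (1, 0) → fm l m' = (1, 0) → m = m' := by decide +kernel

theorem fm_right_one : ∀ m : V, fm (1, 0) m = (1, 0) → m = (1, 0) := by decide +kernel

theorem fm_left_one : ∀ l : V, fm l (1, 0) = (1, 0) → l = (1, 0) := by decide +kernel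

variable {G : Type u} [Group G] [Finite G]

/-- counting along a map whose fibres are cosets -/
theorem card_eq_mul {H C : Subgroup G} (hC : C ≤ H) {X : Type*} (f : H → X) (hf : Function.Surjective f)
    (hfib : ∀ a b : H, f a = f b ↔ (a : G)⁻¹ * b ∈ C) : Nat.card H = Nat.card X * Nat.card C := by
  let g : H ⧸ C.subgroupOf H → X := Quotient.lift f fun a b hab =>
    (hfib a b).2 (by have h := QuotientGroup.leftRel_apply.1 hab; rwa [mem_subgroupOf] at h)
  have hg : Function.Bijective g := by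
    refine ⟨fun x y => ?_, fun x => ?_⟩
    · induction x using Quotient.ind with
      | _ a => induction y using Quotient.ind with
        | _ b => exact fun e => Quotient.sound (QuotientGroup.leftRel_apply.2 (by
            rw [mem_subgroupOf]; exact (hfib a b).1 e))
    · obtain ⟨a, rfl⟩ := hf x
      exact ⟨Quotient.mk _ a, rfl⟩
  rw [Subgroup.card_eq_card_quotient_mul_card_subgroup (C.subgroupOf H), Nat.card_eq_of_bijective g hg,
    Nat.card_congr (subgroupOfEquivOfLe hC).toEquiv]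

namespace Frame

variable (F : Frame G)

theorem two_mem {x : G} (hx : x ∈ normalizer ((F.T : Subgroup G) : Set G)) {k : ℕ} (h2 : x ^ 2 ^ k = 1) :
    x ∈ (F.T : Subgroup G) := by
  haveI : Fact (Nat.Prime 2) := ⟨Nat.prime_two⟩
  obtain ⟨a, -, ha⟩ := (Nat.dvd_prime_pow Nat.prime_two).1 (orderOf_dvd_of_pow_eq_one h2)
  have hp : IsPGroup 2 (zpowers x) := IsPGroup.of_card (n := a) (by rw [Nat.card_zpowers, ha])
  have h1 : IsPGroup 2 ((F.T : Subgroup G) ⊔ zpowers x : Subgroup G) :=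
    F.T.2.to_sup_of_normal_left' hp (zpowers_le.2 hx)
  exact (F.T.3 h1 le_sup_left).le (mem_sup_right (mem_zpowers x))

theorem pow_two_T {t : G} (ht : t ∈ (F.T : Subgroup G)) : t ^ 2 ^ 6 = 1 :=
  orderOf_dvd_iff_pow_eq_one.1 ((Subgroup.orderOf_dvd_natCard _ ht).trans (dvd_of_eq (by rw [F.card_T]; norm_num)))

/-- a conjugate of an element of `T` that normalises `T` lies in it -/
theorem conj_mem_T {g t : G} (ht : t ∈ (F.T : Subgroup G))
    (h : g * t * g⁻¹ ∈ normalizer ((F.T : Subgroup G) : Set G)) : g * t * g⁻¹ ∈ (F.T : Subgroup G) :=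
  F.two_mem h (k := 6) (by rw [conj_pow, F.pow_two_T ht]; group)

theorem split {n : G} (hn : n ∈ normalizer ((F.T : Subgroup G) : Set G)) :
    ∃ t ∈ (F.T : Subgroup G), ∃ r ∈ zpowers n, Odd (orderOf r) ∧ n = t * r := by
  obtain ⟨a, m, hm, hord⟩ := Nat.exists_eq_two_pow_mul_odd (orderOf_pos n).ne'
  have hco : Nat.Coprime m (2 ^ a) := (Nat.coprime_two_right.2 hm).pow_right a
  have hbez := Nat.gcd_eq_gcd_ab m (2 ^ a)
  rw [Nat.Coprime.gcd_eq_one hco] at hbez
  have h0 : (n : G) ^ (2 ^ a * m) = 1 := hord ▸ pow_orderOf_eq_one n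
  refine ⟨(n ^ m) ^ (Nat.gcdA m (2 ^ a)), (F.T : Subgroup G).zpow_mem (F.two_mem (pow_mem hn m) (k := a) (by
    rw [← pow_mul, mul_comm]; exact h0)) _, (n ^ (2 ^ a)) ^ (Nat.gcdB m (2 ^ a)),
    zpow_mem (pow_mem (mem_zpowers n) _) _, ?_, ?_⟩
  · refine hm.of_dvd_nat (orderOf_dvd_of_pow_eq_one ?_)
    rw [← zpow_natCast _ m, ← zpow_mul, mul_comm, zpow_mul, zpow_natCast, ← pow_mul, h0, one_zpow]
  · rw [← zpow_natCast n m, ← zpow_natCast n (2 ^ a), ← zpow_mul, ← zpow_mul, ← zpow_add, ← hbez]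
    exact (zpow_one n).symm

theorem sup_AB : F.A ⊔ F.B = (F.T : Subgroup G) := by
  refine eq_of_le_of_card_ge (sup_le F.A_le F.B_le) ?_
  have h := CfsgLib.Fusion.card_mul_le_sup_inf F.A F.B
  rw [← F.Z_eq, F.card_A, F.card_B, F.card_Z] at h
  rw [F.card_T]
  omega

theorem mem_NT {n : G} (hA : n ∈ normalizer (F.A : Set G)) (hB : n ∈ normalizer (F.B : Set G)) :
    n ∈ normalizer ((F.T : Subgroup G) : Set G) := by
  rw [← conjBy_eq_self_iff, ← F.sup_AB, conjBy, Subgroup.map_sup]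
  exact congrArg₂ (· ⊔ ·) (conjBy_eq_self_iff.2 hA) (conjBy_eq_self_iff.2 hB)

end Frame

namespace PlaneHyp

variable {F : Frame G} (h : PlaneHyp F)
include h

theorem cent_eq {z : G} (hz : z ∈ F.Z) (hz1 : z ≠ 1) :
    centralizer ({z} : Set G) = centralizer (F.Z : Set G) := by
  refine le_antisymm (fun g hg => ?_) (centralizer_le (Set.singleton_subset_iff.2 hz))
  obtain ⟨t, ht, r, hr, hro, rfl⟩ := F.split (h.cent z hz hz1 hg)
  have hrz : r ∈ centralizer ({z} : Set G) := (zpowers_le.2 hg) hr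
  refine mul_mem (mem_centralizer_iff.2 fun w hw => (F.Z_central hw ht).symm) ?_
  obtain ⟨l, m, -, -, -, hc, -⟩ := F.scalar (h.cent z hz hz1 hrz) hro
  obtain ⟨p, hp, rfl⟩ := hz
  have ep : p = ⟨0, 0, p.c⟩ := CfsgLib.Invol.HeisFour.H4.ext' hp.2 hp.1 rfl
  have hc0 : p.c ≠ 0 := fun e => hz1 (by rw [ep, e]; exact map_one F.hom)
  have hlm : fm l m = (1, 0) := by
    refine fm_fix _ p.c hc0 ?_
    have e := hc p.c
    rw [← ep, mem_centralizer_singleton_iff.1 hrz, mul_inv_cancel_right, ep] at e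
    exact (congrArg (fun x : H4 => x.c) (F.hom_injective e)).symm
  refine mem_centralizer_iff.2 ?_
  rintro _ ⟨q, hq, rfl⟩
  have eq : q = ⟨0, 0, q.c⟩ := CfsgLib.Invol.HeisFour.H4.ext' hq.2 hq.1 rfl
  have e := hc q.c
  rw [hlm, fm_one, ← eq] at e
  exact (mul_inv_eq_iff_eq_mul.1 e).symm

theorem CZ_le : centralizer (F.Z : Set G) ≤ normalizer ((F.T : Subgroup G) : Set G) := by
  obtain ⟨z, hz, hz1⟩ := F.exists_Z_ne_one
  exact h.cent_eq hz hz1 ▸ h.cent z hz hz1

theorem T_le_CZ : (F.T : Subgroup G) ≤ centralizer (F.Z : Set G) := fun _ ht =>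
  mem_centralizer_iff.2 fun _ hw => (F.Z_central hw ht).symm

/-- fusion inside `Z` takes place in the normaliser of `T` -/
theorem mem_NT_of_conj {g z : G} (hz : z ∈ F.Z) (hz1 : z ≠ 1) (hg : g * z * g⁻¹ ∈ F.Z) :
    g ∈ normalizer ((F.T : Subgroup G) : Set G) := by
  refine CfsgLib.ProdFusion.mem_of_forall_conj_mem fun t ht => F.conj_mem_T ht ?_
  refine h.cent _ hg (fun e => hz1 (by simpa using e)) (mem_centralizer_singleton_iff.2 ?_)
  rw [show g * t * g⁻¹ * (g * z * g⁻¹) = g * (t * z) * g⁻¹ by group, F.Z_central hz ht]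
  group

/-- an involution of `Z` lies in one conjugate of `A` -/
theorem mem_NA_of_conj {g z : G} (hz : z ∈ F.Z) (hz1 : z ≠ 1) (hg : g⁻¹ * z * g ∈ F.A) :
    g ∈ normalizer (F.A : Set G) := by
  refine F.conj_into fun a ha => F.conj_mem_T (F.A_le ha) (h.cent z hz hz1 (mem_centralizer_singleton_iff.2 ?_))
  have e := F.comm_A ha hg
  calc g * a * g⁻¹ * z = g * (a * (g⁻¹ * z * g)) * g⁻¹ := by group
    _ = z * (g * a * g⁻¹) := by rw [e]; group

theorem mem_NB_of_conj {g z : G} (hz : z ∈ F.Z) (hz1 : z ≠ 1) (hg : g⁻¹ * z * g ∈ F.B) :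
    g ∈ normalizer (F.B : Set G) := by
  have h' := h.swap.mem_NA_of_conj (g := g) (z := z) (by rw [F.swap_Z]; exact hz) hz1 (by rw [F.swap_A]; exact hg)
  rwa [F.swap_A] at h'

/-- every involution is fused into `Z` -/
theorem invol_to_Z {u : G} (hu : orderOf u = 2) : ∃ g, g * u * g⁻¹ ∈ F.Z := by
  haveI : Fact (Nat.Prime 2) := ⟨Nat.prime_two⟩
  obtain ⟨g, hg⟩ := exists_conj_le_sylow
    (IsPGroup.of_card (n := 1) (by rw [Nat.card_zpowers, hu, pow_one]) : IsPGroup 2 (zpowers u)) F.T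
  have hgu := hg u (mem_zpowers u)
  rcases F.invol_cases hgu (invol_mul_self (invol_conj hu g)) with hA | hB
  · obtain ⟨n, -, hn⟩ := h.moveA _ hA
    exact ⟨n * g, by rw [show n * g * u * (n * g)⁻¹ = n * (g * u * g⁻¹) * n⁻¹ by group]; exact hn⟩
  · obtain ⟨n, -, hn⟩ := h.moveB _ hB
    exact ⟨n * g, by rw [show n * g * u * (n * g)⁻¹ = n * (g * u * g⁻¹) * n⁻¹ by group]; exact hn⟩

/-- each involution lies in one conjugate of `A` -/
theorem pt_unique {u : G} (hu : orderOf u = 2) {g g' : G} (h1 : u ∈ conjBy g F.A) (h2 : u ∈ conjBy g' F.A) :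
    conjBy g F.A = conjBy g' F.A := by
  obtain ⟨k, hk⟩ := h.invol_to_Z hu
  have hk1 : k * u * k⁻¹ ≠ 1 := invol_ne_one (invol_conj hu k)
  have key : ∀ x, u ∈ conjBy x F.A → conjBy x F.A = conjBy k⁻¹ F.A := fun x hx => by
    have hn := h.mem_NA_of_conj (g := k * x) hk hk1 (by
      rw [show (k * x)⁻¹ * (k * u * k⁻¹) * (k * x) = x⁻¹ * u * x by group]; exact mem_conjBy.1 hx)
    conv_rhs => rw [← conjBy_eq_self_iff.2 hn, conjBy_conjBy, inv_mul_cancel_left]
  rw [key g h1, key g' h2]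

/-- each involution lies in one conjugate of `B` -/
theorem ln_unique {u : G} (hu : orderOf u = 2) {g g' : G} (h1 : u ∈ conjBy g F.B) (h2 : u ∈ conjBy g' F.B) :
    conjBy g F.B = conjBy g' F.B := by
  rw [← F.swap_A] at h1 h2 ⊢
  exact h.swap.pt_unique hu h1 h2

theorem card_CZ : Nat.card (centralizer (F.Z : Set G)) = 64 ∨ Nat.card (centralizer (F.Z : Set G)) = 192 := by
  classical
  set C := centralizer (F.Z : Set G) with hC
  have hex : ∀ n : C, ∃ l : {l : V // l ≠ 0}, ∃ t ∈ (F.T : Subgroup G), ∃ r, (n : G) = t * r ∧ r ∈ C ∧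
      ∃ m : V, fm l.1 m = (1, 0) ∧ ∀ p, ∃ d, r * F.hom p * r⁻¹ = F.hom ⟨fm l.1 p.a, fm m p.b, d⟩ := by
    intro n
    obtain ⟨t, ht, r, hr, hro, e⟩ := F.split (h.CZ_le n.2)
    have hrC : r ∈ C := (zpowers_le.2 n.2) hr
    obtain ⟨l, m, hl, -, hp, hc, -⟩ := F.scalar (h.CZ_le hrC) hro
    refine ⟨⟨l, hl⟩, t, ht, r, e, hrC, m, fm_fix _ (1, 0) (by decide) ?_, hp⟩
    have e1 := hc (1, 0)
    rw [← mem_centralizer_iff.1 hrC _ (F.hom_mem_Z.2 ⟨rfl, rfl⟩), mul_inv_cancel_right] at e1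
    exact (congrArg (fun x : H4 => x.c) (F.hom_injective e1)).symm
  choose l t ht r he hrC m hlm hact using hex
  have hfib : ∀ a b : C, l a = l b → (a : G)⁻¹ * b ∈ (F.T : Subgroup G) := by
    intro a b hab
    have hm : m a = m b := fm_inv_unique _ _ _ (hlm a) (hab ▸ hlm b)
    set x := (r a)⁻¹ * r b with hx
    have hxC : x ∈ C := mul_mem (inv_mem (hrC a)) (hrC b)
    have hT : ∀ g ∈ (F.T : Subgroup G), ∃ ζ ∈ F.Z, x * g * x⁻¹ = g * ζ := by
      intro g hg
      obtain ⟨p, rfl⟩ := F.exists_of_mem hg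
      obtain ⟨d₁, h1⟩ := hact a p
      obtain ⟨d₂, h2⟩ := hact b p
      rw [hab, hm] at h1
      set w := (F.hom ⟨fm (l b).1 p.a, fm (m b) p.b, d₁⟩)⁻¹ * F.hom ⟨fm (l b).1 p.a, fm (m b) p.b, d₂⟩ with hw
      have hwZ : w ∈ F.Z := by
        rw [hw, ← map_inv, ← map_mul, F.hom_mem_Z, CfsgLib.Invol.HeisFour.mul_def,
          CfsgLib.Invol.HeisFour.inv_def]
        exact ⟨CfsgLib.Invol.HeisFour.self_add _, CfsgLib.Invol.HeisFour.self_add _⟩
      refine ⟨w, hwZ, ?_⟩
      have hcom : (r a)⁻¹ * w = w * (r a)⁻¹ := (mem_centralizer_iff.1 (inv_mem (hrC a)) w hwZ).symm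
      calc x * F.hom p * x⁻¹ = (r a)⁻¹ * (r b * F.hom p * (r b)⁻¹) * r a := by rw [hx]; group
        _ = (r a)⁻¹ * (r a * F.hom p * (r a)⁻¹ * w) * r a := by rw [h1, h2, hw, mul_inv_cancel_left]
        _ = F.hom p * ((r a)⁻¹ * w) * r a := by group
        _ = F.hom p * w := by rw [hcom]; group
    have hx2 : x * x ∈ (F.T : Subgroup G) := h.selfc (mem_centralizer_iff.2 fun g hg => by
      obtain ⟨ζ, hζ, e⟩ := hT g hg
      refine (mul_inv_eq_iff_eq_mul.1 ?_).symm
      calc x * x * g * (x * x)⁻¹ = x * (x * g * x⁻¹) * x⁻¹ := by group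
        _ = (x * g * x⁻¹) * (x * ζ * x⁻¹) := by conv_lhs => rw [e]
                                                group
        _ = g * (ζ * ζ) := by rw [e, ← mem_centralizer_iff.1 hxC ζ hζ, mul_inv_cancel_right]; group
        _ = g := by rw [F.sq_of_mem (F.Z_le_A hζ), mul_one])
    have hxT : x ∈ (F.T : Subgroup G) := F.two_mem (h.CZ_le hxC) (k := 7) (by
      rw [pow_succ', pow_mul, pow_two, F.pow_two_T hx2])
    have hconj := (mem_normalizer_iff.1 (h.CZ_le (inv_mem (hrC a))) _).1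
      (mul_mem ((F.T : Subgroup G).inv_mem (ht a)) (ht b))
    rw [inv_inv] at hconj
    have := mul_mem hconj hxT
    rwa [hx, show (r a)⁻¹ * ((t a)⁻¹ * t b) * r a * ((r a)⁻¹ * r b) = (t a * r a)⁻¹ * (t b * r b) by group,
      ← he, ← he] at this
  have h3 : Nat.card {l : V // l ≠ 0} = 3 := by rw [Nat.card_eq_fintype_card]; decide
  have hle : Nat.card C ≤ 3 * 64 := by
    have h1 := Subgroup.card_eq_card_quotient_mul_card_subgroup ((F.T : Subgroup G).subgroupOf C)
    rw [Nat.card_congr (subgroupOfEquivOfLe h.T_le_CZ).toEquiv, F.card_T] at h1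
    rw [h1, ← h3]
    refine Nat.mul_le_mul_right _ (Nat.card_le_card_of_injective
      (fun q : C ⧸ (F.T : Subgroup G).subgroupOf C => l q.out) fun q q' e => ?_)
    rw [← Quotient.out_eq q, ← Quotient.out_eq q']
    exact Quotient.sound (QuotientGroup.leftRel_apply.2 (by rw [mem_subgroupOf]; exact hfib _ _ e))
  have hodd : Odd ((F.T : Subgroup G).relIndex C) := by
    rw [← Nat.not_even_iff_odd, even_iff_two_dvd]
    refine fun hd => F.not_dvd_index (hd.trans ?_)
    rw [← (F.T : Subgroup G).relIndex_mul_index h.T_le_CZ]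
    exact dvd_mul_right _ _
  have hmul : (F.T : Subgroup G).relIndex C * 64 = Nat.card C := by
    rw [← F.card_T, mul_comm, ← Nat.card_congr (subgroupOfEquivOfLe h.T_le_CZ).toEquiv]
    exact Subgroup.card_mul_index _
  obtain ⟨j, hj⟩ := hodd
  rw [hj] at hmul
  omega

/-- the three involutions of the centre are fused -/
theorem NT_trans {z z' : G} (hz : z ∈ F.Z) (hz1 : z ≠ 1) (hz' : z' ∈ F.Z) (hz'1 : z' ≠ 1) :
    ∃ n ∈ normalizer ((F.T : Subgroup G) : Set G), n * z * n⁻¹ = z' := by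
  classical
  by_contra hno
  haveI := Fintype.ofFinite G
  -- some normalising element moving one involution moves all
  have hfix : ∀ n ∈ normalizer ((F.T : Subgroup G) : Set G), n ∈ centralizer (F.Z : Set G) := by
    intro n hn
    by_contra hnC
    have hmove : ∀ w ∈ F.Z, w ≠ 1 → n * w * n⁻¹ ∈ F.Z ∧ n * w * n⁻¹ ≠ 1 ∧ n * w * n⁻¹ ≠ w := fun w hw hw1 =>
      ⟨(mem_normalizer_iff.1 (F.N_T_le_Z hn) w).1 hw, fun e => hw1 (by simpa using e), fun e => hnC (by
        rw [← h.cent_eq hw hw1, mem_centralizer_singleton_iff]; exact mul_inv_eq_iff_eq_mul.1 e)⟩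
    obtain ⟨h1, h11, h12⟩ := hmove z hz hz1
    obtain ⟨h2, h21, h22⟩ := hmove _ h1 h11
    obtain ⟨h3, h31, h32⟩ := hmove _ hz' hz'1
    have hne1 : z' ≠ n * z * n⁻¹ := fun e => hno ⟨n, hn, e.symm⟩
    have hne2 : z' ≠ n * (n * z * n⁻¹) * n⁻¹ := fun e => hno ⟨n * n, mul_mem hn hn, by rw [e]; group⟩
    have hne3 : z' ≠ z := fun e => hno ⟨1, one_mem _, by simp [e]⟩
    have hall : ∀ w ∈ F.Z, w ≠ 1 → w = z ∨ w = n * z * n⁻¹ ∨ w = z' := by
      intro w hw hw1
      by_contra hcon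
      simp only [not_or] at hcon
      obtain ⟨ha, hb, hc⟩ := hcon
      have h5 : ({1, z, n * z * n⁻¹, z', w} : Finset G) ⊆ Finset.univ.filter fun x => x ∈ F.Z := by
        intro x hx
        simp only [Finset.mem_insert, Finset.mem_singleton] at hx
        rcases hx with rfl | rfl | rfl | rfl | rfl <;> simp [hz, h1, hz', hw]
      have h6 := Finset.card_le_card h5
      rw [← Fintype.card_subtype, ← Nat.card_eq_fintype_card] at h6
      have h7 : Nat.card {x // x ∈ F.Z} = 4 := F.card_Z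
      rw [h7, Finset.card_insert_of_notMem, Finset.card_insert_of_notMem, Finset.card_insert_of_notMem,
        Finset.card_insert_of_notMem, Finset.card_singleton] at h6
      · omega
      all_goals simp only [Finset.mem_insert, Finset.mem_singleton, not_or]
      · exact Ne.symm hc
      · exact ⟨hne1.symm, Ne.symm hb⟩
      · exact ⟨h12.symm, hne3.symm, Ne.symm ha⟩
      · exact ⟨hz1.symm, h11.symm, hz'1.symm, hw1.symm⟩
    rcases hall _ h2 h21 with e | e | e
    · rcases hall _ h3 h31 with e' | e' | e'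
      · refine hne1 ?_
        rw [← e] at e'
        exact mul_left_cancel (mul_right_cancel e')
      · exact hne3 (mul_left_cancel (mul_right_cancel e'))
      · exact h32 e'
    · exact h22 e
    · exact hne2 e.symm
  -- the three orbits in `A`
  let O : G → Finset G := fun w => Finset.univ.filter fun x => ∃ n ∈ normalizer (F.A : Set G), n * w * n⁻¹ = x
  have hmemO : ∀ w x, x ∈ O w ↔ ∃ n ∈ normalizer (F.A : Set G), n * w * n⁻¹ = x := fun w x => by simp [O]
  have hsub : ∀ w ∈ F.Z, O w ⊆ Finset.univ.filter fun x => x ∈ F.A := fun w hw x hx => by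
    obtain ⟨n, hn, rfl⟩ := (hmemO w x).1 hx
    simpa using (mem_normalizer_iff.1 hn w).1 (F.Z_le_A hw)
  have hdis : ∀ w ∈ F.Z, w ≠ 1 → ∀ w' ∈ F.Z, w ≠ w' → Disjoint (O w) (O w') := by
    intro w hw hw1 w' hw' hne
    refine Finset.disjoint_left.2 fun x hx hx' => hne ?_
    obtain ⟨n, hn, rfl⟩ := (hmemO w x).1 hx
    obtain ⟨n', hn', e⟩ := (hmemO w' _).1 hx'
    have e2 : (n'⁻¹ * n) * w * (n'⁻¹ * n)⁻¹ = w' := by
      calc (n'⁻¹ * n) * w * (n'⁻¹ * n)⁻¹ = n'⁻¹ * (n * w * n⁻¹) * n' := by group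
        _ = w' := by rw [← e]; group
    have hmem := hfix _ (h.mem_NT_of_conj hw hw1 (by rw [e2]; exact hw'))
    rw [← e2, ← mem_centralizer_iff.1 hmem w hw, mul_inv_cancel_right]
  have hbig : ∀ w ∈ F.Z, w ≠ 1 → ∃ x ∈ O w, x ∉ F.Z := by
    intro w hw hw1
    by_contra hcon
    push Not at hcon
    have hNA : normalizer (F.A : Set G) ≤ normalizer (F.Z : Set G) := fun n hn =>
      F.N_T_le_Z (h.mem_NT_of_conj hw hw1 (hcon _ ((hmemO w _).2 ⟨n, hn, rfl⟩)))
    obtain ⟨a, ha, haZ⟩ := F.exists_A_not_Z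
    obtain ⟨n, hn, hnZ⟩ := h.moveA a ha
    exact haZ ((mem_normalizer_iff.1 (hNA hn) a).2 hnZ)
  have hcoset : ∀ w ∈ F.Z, ∀ x ∈ O w, x ∉ F.Z → ∀ c ∈ F.Z, x * c ∈ O w := by
    intro w hw x hx hxZ c hc
    have hxA : x ∈ F.A := by simpa using hsub w hw hx
    obtain ⟨t, ht, e⟩ := F.exists_shift hxA hxZ hc
    obtain ⟨n, hn, rfl⟩ := (hmemO w x).1 hx
    exact (hmemO w _).2 ⟨t * n, mul_mem (F.T_le_normalizer_A ht) hn, by rw [← e]; group⟩
  have hfive : ∀ w ∈ F.Z, w ≠ 1 → ∀ x ∈ O w, x ∉ F.Z →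
      insert w ((Finset.univ.filter fun c => c ∈ F.Z).image (x * ·)) ⊆ O w ∧
      (insert w ((Finset.univ.filter fun c => c ∈ F.Z).image (x * ·))).card = 5 := by
    intro w hw hw1 x hx hxZ
    refine ⟨Finset.insert_subset ((hmemO w w).2 ⟨1, one_mem _, by simp⟩) ?_, ?_⟩
    · intro y hy
      simp only [Finset.mem_image, Finset.mem_filter, Finset.mem_univ, true_and] at hy
      obtain ⟨c, hc, rfl⟩ := hy
      exact hcoset w hw x hx hxZ c hc
    · rw [Finset.card_insert_of_notMem ?_, Finset.card_image_of_injective _ (mul_right_injective x),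
        ← Fintype.card_subtype, ← Nat.card_eq_fintype_card]
      · exact congrArg (· + 1) F.card_Z
      · simp only [Finset.mem_image, Finset.mem_filter, Finset.mem_univ, true_and]
        rintro ⟨c, hc, e⟩
        exact hxZ (by rw [eq_mul_inv_of_mul_eq e]; exact mul_mem hw (inv_mem hc))
  have hge : ∀ w ∈ F.Z, w ≠ 1 → 5 ≤ (O w).card := fun w hw hw1 => by
    obtain ⟨x, hx, hxZ⟩ := hbig w hw hw1
    exact (hfive w hw hw1 x hx hxZ).2 ▸ Finset.card_le_card (hfive w hw hw1 x hx hxZ).1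
  have hzz : z ≠ z' := fun e => hno ⟨1, one_mem _, by simp [e]⟩
  have hzz' : z * z' ∈ F.Z := mul_mem hz hz'
  have hzz1 : z * z' ≠ 1 := fun e => hzz (by
    rw [← mul_left_cancel ((F.sq_of_mem (F.Z_le_A hz)).trans e.symm)])
  have hle : (O z).card ≤ 5 := by
    have hd1 := hdis z hz hz1 z' hz' hzz
    have hd2 := hdis z hz hz1 _ hzz' (fun e => hz'1 (mul_eq_left.1 e.symm))
    have hd3 := hdis z' hz' hz'1 _ hzz' (fun e => hz1 (mul_eq_right.1 e.symm))
    have hone : ∀ w ∈ F.Z, w ≠ 1 → (1 : G) ∉ O w := fun w hw hw1 hm => by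
      obtain ⟨n, -, e⟩ := (hmemO w 1).1 hm
      exact hw1 (by simpa using e)
    have hs : O z ∪ O z' ∪ O (z * z') ⊆ (Finset.univ.filter fun x => x ∈ F.A).erase 1 := by
      intro x hx
      simp only [Finset.mem_union] at hx
      refine Finset.mem_erase.2 ⟨?_, ?_⟩
      · rintro rfl
        rcases hx with (hx | hx) | hx
        · exact hone z hz hz1 hx
        · exact hone z' hz' hz'1 hx
        · exact hone _ hzz' hzz1 hx
      · rcases hx with (hx | hx) | hx
        · exact hsub z hz hx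
        · exact hsub z' hz' hx
        · exact hsub _ hzz' hx
    have hcard := Finset.card_le_card hs
    have h16 : (Finset.univ.filter fun x => x ∈ F.A).card = 16 := by
      rw [← Fintype.card_subtype, ← Nat.card_eq_fintype_card]
      exact F.card_A
    rw [Finset.card_union_of_disjoint (Finset.disjoint_union_left.2 ⟨hd2, hd3⟩),
      Finset.card_union_of_disjoint hd1, Finset.card_erase_of_mem (by simp), h16] at hcard
    have := hge z' hz' hz'1
    have := hge _ hzz' hzz1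
    omega
  obtain ⟨a, ha, haZ⟩ := hbig z hz hz1
  obtain ⟨hsubO, hcardO⟩ := hfive z hz hz1 a ha haZ
  have heqO := Finset.eq_of_subset_of_card_le hsubO (by rw [hcardO]; exact hle)
  obtain ⟨n, hn, hna⟩ := (hmemO z a).1 ha
  have haA : a ∈ F.A := by simpa using hsub z hz ha
  -- two other points of the orbit
  have hback : ∀ c ∈ F.Z, c ≠ 1 → ∃ d ∈ F.Z, n⁻¹ * (a * c) * n = a * d := by
    intro c hc hc1
    obtain ⟨k, hk, hk'⟩ := (hmemO z _).1 (hcoset z hz a ha haZ c hc)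
    have hmem : n⁻¹ * (a * c) * n ∈ O z := (hmemO z _).2 ⟨n⁻¹ * k, mul_mem (inv_mem hn) hk, by rw [← hk']; group⟩
    rw [← heqO] at hmem
    rcases Finset.mem_insert.1 hmem with e | e
    · refine absurd ?_ hc1
      have e' : a * c = a := by
        rw [← hna] at e ⊢
        calc n * z * n⁻¹ * c = n * (n⁻¹ * (n * z * n⁻¹ * c) * n) * n⁻¹ := by group
          _ = n * z * n⁻¹ := by rw [e]
      exact mul_eq_left.1 e'
    · simp only [Finset.mem_image, Finset.mem_filter, Finset.mem_univ, true_and] at e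
      obtain ⟨d, hd, hd'⟩ := e
      exact ⟨d, hd, hd'.symm⟩
  obtain ⟨d₁, hd₁, e₁⟩ := hback z hz hz1
  obtain ⟨d₂, hd₂, e₂⟩ := hback z' hz' hz'1
  have hprod : ∀ x y : G, x ∈ F.Z → y ∈ F.Z → (a * x) * (a * y) = x * y := by
    intro x y hx hy
    calc a * x * (a * y) = a * (x * a) * y := by group
      _ = a * a * (x * y) := by rw [F.comm_A (F.Z_le_A hx) haA]; group
      _ = x * y := by rw [F.sq_of_mem haA, one_mul]
  have e3 : n⁻¹ * (z * z') * n = d₁ * d₂ := by
    rw [← hprod z z' hz hz', show n⁻¹ * ((a * z) * (a * z')) * n = (n⁻¹ * (a * z) * n) * (n⁻¹ * (a * z') * n) by group,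
      e₁, e₂, hprod d₁ d₂ hd₁ hd₂]
  have hnT : n⁻¹ ∈ normalizer ((F.T : Subgroup G) : Set G) :=
    h.mem_NT_of_conj hzz' hzz1 (by rw [inv_inv, e3]; exact mul_mem hd₁ hd₂)
  exact haZ (by rw [← hna]; exact (mem_normalizer_iff.1 (F.N_T_le_Z (by simpa using inv_mem hnT)) z).1 hz)

theorem invol_conj_to {z u : G} (hz : z ∈ F.Z) (hz1 : z ≠ 1) (hu : orderOf u = 2) : ∃ g, g * z * g⁻¹ = u := by
  obtain ⟨k, hk⟩ := h.invol_to_Z hu
  obtain ⟨n, -, e⟩ := h.NT_trans hz hz1 hk (invol_ne_one (invol_conj hu k))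
  exact ⟨k⁻¹ * n, by rw [show k⁻¹ * n * z * (k⁻¹ * n)⁻¹ = k⁻¹ * (n * z * n⁻¹) * k by group, e]; group⟩

theorem card_NT : Nat.card (normalizer ((F.T : Subgroup G) : Set G)) =
    3 * Nat.card (centralizer (F.Z : Set G)) := by
  classical
  obtain ⟨z, hz, hz1⟩ := F.exists_Z_ne_one
  have h3 : Nat.card {w : F.Z // w ≠ 1} = 3 := by
    haveI := Fintype.ofFinite F.Z
    rw [Nat.card_eq_fintype_card, Fintype.card_subtype_compl, Fintype.card_subtype_eq, ← Nat.card_eq_fintype_card,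
      F.card_Z]
  rw [← h3]
  refine card_eq_mul h.CZ_le
    (fun n => (⟨⟨(n : G) * z * (n : G)⁻¹, (mem_normalizer_iff.1 (F.N_T_le_Z n.2) z).1 hz⟩,
      fun e => hz1 (by simpa using congrArg Subtype.val e)⟩ : {w : F.Z // w ≠ 1})) ?_ fun a b => ?_
  · rintro ⟨⟨w, hw⟩, hw1⟩
    obtain ⟨n, hn, e⟩ := h.NT_trans hz hz1 hw (fun e => hw1 (Subtype.ext e))
    exact ⟨⟨n, hn⟩, Subtype.ext (Subtype.ext e)⟩
  · rw [← h.cent_eq hz hz1, mem_centralizer_singleton_iff]
    simp only [Subtype.ext_iff]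
    constructor
    · intro e
      calc (a : G)⁻¹ * b * z = (a : G)⁻¹ * (b * z * (b : G)⁻¹) * b := by group
        _ = (a : G)⁻¹ * (a * z * (a : G)⁻¹) * b := by rw [e]
        _ = z * ((a : G)⁻¹ * b) := by group
    · intro e
      calc (a : G) * z * (a : G)⁻¹ = a * (z * ((a : G)⁻¹ * b)) * (b : G)⁻¹ := by group
        _ = a * ((a : G)⁻¹ * b * z) * (b : G)⁻¹ := by rw [e]
        _ = b * z * (b : G)⁻¹ := by group

theorem card_NA : Nat.card (normalizer (F.A : Set G)) = 15 * Nat.card (centralizer (F.Z : Set G)) := by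
  classical
  obtain ⟨z, hz, hz1⟩ := F.exists_Z_ne_one
  have h15 : Nat.card {w : F.A // w ≠ 1} = 15 := by
    haveI := Fintype.ofFinite F.A
    rw [Nat.card_eq_fintype_card, Fintype.card_subtype_compl, Fintype.card_subtype_eq, ← Nat.card_eq_fintype_card,
      F.card_A]
  rw [← h15]
  refine card_eq_mul (h.CZ_le.trans F.N_T_le_A)
    (fun n => (⟨⟨(n : G) * z * (n : G)⁻¹, (mem_normalizer_iff.1 n.2 z).1 (F.Z_le_A hz)⟩,
      fun e => hz1 (by simpa using congrArg Subtype.val e)⟩ : {w : F.A // w ≠ 1})) ?_ fun a b => ?_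
  · rintro ⟨⟨w, hw⟩, hw1⟩
    obtain ⟨k, hk, hkZ⟩ := h.moveA w hw
    obtain ⟨n, hn, e⟩ := h.NT_trans hz hz1 hkZ (fun e => hw1 (Subtype.ext (by simpa using e)))
    refine ⟨⟨k⁻¹ * n, mul_mem (inv_mem hk) (F.N_T_le_A hn)⟩, Subtype.ext (Subtype.ext ?_)⟩
    show k⁻¹ * n * z * (k⁻¹ * n)⁻¹ = w
    rw [show k⁻¹ * n * z * (k⁻¹ * n)⁻¹ = k⁻¹ * (n * z * n⁻¹) * k by group, e]
    group
  · rw [← h.cent_eq hz hz1, mem_centralizer_singleton_iff]
    simp only [Subtype.ext_iff]
    constructor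
    · intro e
      calc (a : G)⁻¹ * b * z = (a : G)⁻¹ * (b * z * (b : G)⁻¹) * b := by group
        _ = (a : G)⁻¹ * (a * z * (a : G)⁻¹) * b := by rw [e]
        _ = z * ((a : G)⁻¹ * b) := by group
    · intro e
      calc (a : G) * z * (a : G)⁻¹ = a * (z * ((a : G)⁻¹ * b)) * (b : G)⁻¹ := by group
        _ = a * ((a : G)⁻¹ * b * z) * (b : G)⁻¹ := by rw [e]
        _ = b * z * (b : G)⁻¹ := by group

end PlaneHyp

end CfsgLib.Invol.L34Type
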