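import Cfsg.Agent.Lib.Invol.L34Type.Plane.Lines
import Cfsg.Agent.Lib.Invol.L34Type.Klein
import Cfsg.Agent.Lib.SolvSignalizer.Main
import Cfsg.Agent.Lib.HallNumbers.Small

/-!
# Elements of order three centralising one of order five in the normaliser of a point

Such an element has a centraliser of order 180 inside the normaliser.
-/

set_option autoImplicit false
set_option linter.unusedSectionVars false
set_option linter.style.haveILetI false

namespace CfsgLib.Invol.L34Type

open Subgroup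
open CfsgLib.Invol
open CfsgLib.Invol.HeisFour (V fm H4 mul_def inv_def)
open CfsgLib.Coprime (conjBy mem_conjBy conj_mem_conjBy conjBy_eq_self_iff conjBy_conjBy conjBy_one card_conjBy)

universe u

theorem fm_one_add : ∀ m : V, fm m (1, 0) + (1, 0) = 0 → m = (1, 0) := by decide +kernel

theorem plane_fm_one_right : ∀ l : V, fm l (1, 0) = l := by decide +kernel

theorem plane_fm_solve : ∀ l d : V, l ≠ (1, 0) → ∃ c : V, d + fm l c = c := by decide +kernel

/-- a group of order dividing forty five has a central subgroup of order five -/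
theorem five_central {X : Type*} [Group X] [Finite X] (hX : Nat.card X ∣ 45) {f : X} (hf : orderOf f = 5) :
    (∀ y : X, orderOf y = 5 → y ∈ zpowers f) ∧ ∀ x : X, x * f = f * x := by
  haveI := Fact.mk (show Nat.Prime 5 by norm_num)
  obtain ⟨P, hP⟩ := (IsPGroup.of_card (n := 1) (by rw [Nat.card_zpowers, hf, pow_one]) :
    IsPGroup 5 (zpowers f)).exists_le_sylow
  have h5 : Nat.card (P : Subgroup X) = 5 := by
    obtain ⟨k, hk⟩ := IsPGroup.iff_card.1 P.2
    have h1 := Subgroup.orderOf_dvd_natCard (P : Subgroup X) (hP (mem_zpowers f))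
    rw [hf] at h1
    have h2 := (Subgroup.card_subgroup_dvd_card (P : Subgroup X)).trans hX
    have h3 := Nat.le_of_dvd (by norm_num) h2
    rcases k with _ | _ | _ | k
    · rw [hk] at h1; norm_num at h1
    · rw [hk]; rfl
    · rw [hk] at h2; norm_num at h2
    · rw [hk, pow_add] at h3
      have : 1 ≤ 5 ^ k := Nat.one_le_pow _ _ (by norm_num)
      omega
  have hn : Nat.card (Sylow 5 X) = 1 := by
    have h1 := (Sylow.card_dvd_index P).trans ((Subgroup.index_dvd_card _).trans hX)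
    have h2 := card_sylow_modEq_one 5 X
    have hmem := Nat.mem_divisors.2 ⟨h1, by norm_num⟩
    rw [show Nat.divisors 45 = {1, 3, 5, 9, 15, 45} by decide] at hmem
    simp only [Finset.mem_insert, Finset.mem_singleton] at hmem
    rcases hmem with e | e | e | e | e | e <;> rw [e] at h2 ⊢ <;> simp [Nat.ModEq] at h2
  haveI := (Nat.card_eq_one_iff_unique.1 hn).1
  have heq : zpowers f = (P : Subgroup X) :=
    Subgroup.eq_of_le_of_card_ge hP (by rw [h5, Nat.card_zpowers, hf])
  refine ⟨fun y hy => ?_, fun x => ?_⟩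
  · obtain ⟨Q, hQ⟩ := (IsPGroup.of_card (n := 1) (by rw [Nat.card_zpowers, hy, pow_one]) :
      IsPGroup 5 (zpowers y)).exists_le_sylow
    rw [heq, Subsingleton.elim P Q]
    exact hQ (mem_zpowers y)
  · haveI hnorm : (zpowers f).Normal := heq ▸ Sylow.normal_of_subsingleton P
    let φ : X →* MulAut (zpowers f) := MulAut.conjNormal
    have hord : Nat.card (MulAut (zpowers f)) = 4 := by
      rw [IsCyclic.card_mulAut, Nat.card_zpowers, hf]; rfl
    have h1 : orderOf (φ x) ∣ 4 := hord ▸ orderOf_dvd_natCard _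
    have h2 : orderOf (φ x) ∣ 45 := (orderOf_map_dvd φ x).trans ((orderOf_dvd_natCard x).trans hX)
    have h3 : φ x = 1 := orderOf_eq_one_iff.1 (Nat.eq_one_of_dvd_one (Nat.dvd_gcd h1 h2))
    have e := congrArg (fun α : MulAut (zpowers f) => ((α ⟨f, mem_zpowers f⟩ : zpowers f) : X)) h3
    simp only [φ, MulAut.conjNormal_apply, MulAut.one_apply] at e
    exact mul_inv_eq_iff_eq_mul.1 e

variable {G : Type u} [Group G] [Finite G]

namespace Frame

variable (F : Frame G)

theorem elem_Z : Cfsg.IsElementaryAbelian 2 F.Z :=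
  ⟨⟨⟨fun x y => Subtype.ext (F.comm_A (F.Z_le_A x.2) (F.Z_le_A y.2))⟩⟩, fun z hz => F.elemA.2 z (F.Z_le_A hz)⟩

theorem Fix.mul {F : Frame G} {k k' : G} (hk : F.Fix k) (hk' : F.Fix k') : F.Fix (k * k') :=
  ⟨mul_mem hk.1 hk'.1, fun L hL => by rw [← conjBy_conjBy, hk'.2 L hL, hk.2 L hL]⟩

end Frame

namespace PlaneHyp

variable {F : Frame G} (h : PlaneHyp F)
include h

omit h in
theorem conjBy_centralizer (n s : G) : conjBy n (centralizer ({s} : Set G)) = centralizer ({n * s * n⁻¹} : Set G) := by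
  ext x
  rw [mem_conjBy, mem_centralizer_singleton_iff, mem_centralizer_singleton_iff,
    show x * (n * s * n⁻¹) = n * (n⁻¹ * x * n * s) * n⁻¹ by group,
    show n * s * n⁻¹ * x = n * (s * (n⁻¹ * x * n)) * n⁻¹ by group]
  exact ⟨fun e => by rw [e], fun e => mul_left_cancel (mul_right_cancel e)⟩

/-- the fixed points in `T` of an element of order three centralising `Z` -/
theorem fix_T_eq_Z {s t : G} (hs : s ∈ centralizer (F.Z : Set G)) (hso : orderOf s = 3)
    (ht : t ∈ (F.T : Subgroup G)) (hc : s * t = t * s) : t ∈ F.Z := by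
  obtain ⟨l, m, -, -, hp, hZ, htr⟩ := F.scalar (h.CZ_le hs) (hso ▸ by decide)
  have hlm : fm l m = (1, 0) := fm_fix _ (1, 0) (by decide) (by
    have e := hZ (1, 0)
    rw [← mem_centralizer_iff.1 hs _ (F.hom_mem_Z.2 ⟨rfl, rfl⟩), mul_inv_cancel_right] at e
    exact (congrArg (fun x : H4 => x.c) (F.hom_injective e)).symm)
  have hne : ¬ (l = (1, 0) ∧ m = (1, 0)) := fun e => by
    have hd := Subgroup.orderOf_dvd_natCard _ (h.selfc (htr e.1 e.2))
    rw [hso, F.card_T] at hd
    omega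
  obtain ⟨p, rfl⟩ := F.exists_of_mem ht
  obtain ⟨d, e⟩ := hp p
  rw [hc, mul_inv_cancel_right] at e
  have e' := F.hom_injective e
  refine F.hom_mem_Z.2 ⟨?_, ?_⟩
  · by_contra hb
    have hm : m = (1, 0) := fm_fix _ _ hb (congrArg (fun x : H4 => x.b) e').symm
    exact hne ⟨fm_left_one l (by rw [← hm] at hlm ⊢; exact hlm), hm⟩
  · by_contra ha
    have hl : l = (1, 0) := fm_fix _ _ ha (congrArg (fun x : H4 => x.a) e').symm
    exact hne ⟨hl, fm_right_one m (by rw [← hl] at hlm ⊢; exact hlm)⟩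

theorem not_eight {s : G} (hs : s ∈ centralizer (F.Z : Set G)) (hso : orderOf s = 3) :
    ¬ 8 ∣ Nat.card (centralizer ({s} : Set G)) := by
  intro h8
  haveI : Fact (Nat.Prime 2) := ⟨Nat.prime_two⟩
  set X := centralizer ({s} : Set G)
  have hZX : F.Z ≤ X := fun z hz => mem_centralizer_singleton_iff.2 (mem_centralizer_iff.1 hs z hz)
  have hc : Nat.card (F.Z.subgroupOf X) = 2 ^ 2 := by
    rw [Nat.card_congr (subgroupOfEquivOfLe hZX).toEquiv, F.card_Z]; rfl
  obtain ⟨K, hK, hle⟩ := Sylow.exists_subgroup_card_pow_succ (show 2 ^ (2 + 1) ∣ Nat.card X from h8) hc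
  haveI : ((F.Z.subgroupOf X).subgroupOf K).Normal := Subgroup.normal_of_index_eq_two (by
    have e := ((F.Z.subgroupOf X).subgroupOf K).card_mul_index
    rw [Nat.card_congr (subgroupOfEquivOfLe hle).toEquiv, hc, hK] at e
    norm_num at e
    omega)
  obtain ⟨r, hr, hrZ⟩ : ∃ r ∈ K, r ∉ F.Z.subgroupOf X := SetLike.not_le_iff_exists.1 fun hle' => by
    have h1 := Subgroup.card_le_of_le hle'
    rw [hc, hK] at h1
    norm_num at h1
  refine hrZ (mem_subgroupOf.2 ?_)
  obtain ⟨z, hz, hz1⟩ := F.exists_Z_ne_one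
  have hconj := Subgroup.Normal.conj_mem ‹((F.Z.subgroupOf X).subgroupOf K).Normal› ⟨⟨z, hZX hz⟩, hle (mem_subgroupOf.2 hz)⟩
    (mem_subgroupOf.2 (mem_subgroupOf.2 hz)) ⟨r, hr⟩
  have hrN := h.mem_NT_of_conj hz hz1 (g := (r : G)) (mem_subgroupOf.1 (mem_subgroupOf.1 hconj))
  refine h.fix_T_eq_Z hs hso (F.two_mem hrN (k := 3) ?_) (mem_centralizer_singleton_iff.1 r.2).symm
  have hd := Subgroup.orderOf_dvd_natCard K hr
  rw [hK] at hd
  exact congrArg Subtype.val (orderOf_dvd_iff_pow_eq_one.1 hd)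

theorem mem_zpowers_of_odd {s x : G} (hs : s ∈ centralizer (F.Z : Set G)) (hso : orderOf s = 3)
    (hx : x ∈ centralizer (F.Z : Set G)) (hxo : Odd (orderOf x)) (hc : x * s = s * x) : x ∈ zpowers s := by
  haveI := Fact.mk Nat.prime_three
  have h192 : Nat.card (centralizer (F.Z : Set G)) = 192 := by
    rcases h.card_CZ with e | e
    · have hd := Subgroup.orderOf_dvd_natCard _ hs
      rw [hso, e] at hd
      omega
    · exact e
  have hd := Subgroup.orderOf_dvd_natCard _ hx
  rw [h192] at hd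
  have hx3 : orderOf x ∣ 3 := (Nat.Coprime.dvd_of_dvd_mul_left ((Nat.coprime_two_right.2 hxo).pow_right 6)
    (show orderOf x ∣ 2 ^ 6 * 3 by norm_num at hd ⊢; exact hd))
  have hp : IsPGroup 3 (zpowers x) := by
    rcases (Nat.dvd_prime Nat.prime_three).1 hx3 with e | e
    · exact IsPGroup.of_card (n := 0) (by rw [Nat.card_zpowers, e, pow_zero])
    · exact IsPGroup.of_card (n := 1) (by rw [Nat.card_zpowers, e, pow_one])
  have hq : IsPGroup 3 (zpowers s) := IsPGroup.of_card (n := 1) (by rw [Nat.card_zpowers, hso, pow_one])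
  have hn : zpowers x ≤ normalizer (zpowers s : Set G) := by
    rw [zpowers_le]
    refine CfsgLib.ProdFusion.mem_of_forall_conj_mem fun y hy => ?_
    obtain ⟨i, rfl⟩ := mem_zpowers_iff.1 hy
    rw [(Commute.zpow_right (show Commute x s from hc) i).eq, mul_inv_cancel_right]
    exact zpow_mem (mem_zpowers s) i
  obtain ⟨k, hk⟩ := IsPGroup.iff_card.1 (hq.to_sup_of_normal_left' hp hn)
  have hle : (zpowers s ⊔ zpowers x : Subgroup G) ≤ centralizer (F.Z : Set G) :=
    sup_le (zpowers_le.2 hs) (zpowers_le.2 hx)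
  have hd2 := Subgroup.card_dvd_of_le hle
  rw [hk, h192] at hd2
  have hk1 : k ≤ 1 := by
    by_contra hk2
    have := (pow_dvd_pow 3 (show 2 ≤ k by omega)).trans hd2
    norm_num at this
  have e : zpowers s = (zpowers s ⊔ zpowers x : Subgroup G) := eq_of_le_of_card_ge le_sup_left (by
    rw [hk, Nat.card_zpowers, hso]
    exact (Nat.pow_le_pow_right (by norm_num) hk1).trans_eq (pow_one 3))
  rw [e]
  exact mem_sup_right (mem_zpowers x)

/-- the centraliser of an element of order three over `Z` with a fusing element -/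
theorem card_cent_three {s g : G} (hs : s ∈ centralizer (F.Z : Set G)) (hso : orderOf s = 3)
    (hg : g ∈ normalizer ((F.T : Subgroup G) : Set G)) (hgs : g * s = s * g)
    (hgZ : g ∉ centralizer (F.Z : Set G)) (h5 : 5 ∣ Nat.card (centralizer ({s} : Set G))) :
    Nat.card (centralizer ({s} : Set G)) = 180 := by
  classical
  haveI : Fact (Nat.Prime 2) := ⟨Nat.prime_two⟩
  set X := centralizer ({s} : Set G) with hXdef
  have hZX : F.Z ≤ X := fun z hz => mem_centralizer_singleton_iff.2 (mem_centralizer_iff.1 hs z hz)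
  have hZc : Nat.card (F.Z.subgroupOf X) = 4 := by
    rw [Nat.card_congr (subgroupOfEquivOfLe hZX).toEquiv, F.card_Z]
  have hidx : ¬ 2 ∣ (F.Z.subgroupOf X).index := fun hd => h.not_eight hs hso (by
    rw [← hXdef, ← (F.Z.subgroupOf X).card_mul_index, hZc]
    exact mul_dvd_mul_left 4 hd)
  let P : Sylow 2 X := (IsPGroup.of_card (n := 2) hZc : IsPGroup 2 (F.Z.subgroupOf X)).toSylow hidx
  have hPc : Nat.card (P : Subgroup X) = 4 := hZc
  obtain ⟨z, hz, hz1⟩ := F.exists_Z_ne_one
  have hgX : g ∈ X := mem_centralizer_singleton_iff.2 hgs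
  set z' := g * z * g⁻¹ with hz'
  have hz'Z : z' ∈ F.Z := (mem_normalizer_iff.1 (F.N_T_le_Z hg) z).1 hz
  have hz'1 : z' ≠ 1 := fun e => hz1 (by simpa [hz'] using e)
  have hzz' : z' ≠ z := fun e => hgZ (by
    rw [← h.cent_eq hz hz1, mem_centralizer_singleton_iff]; exact mul_inv_eq_iff_eq_mul.1 e)
  set z'' := g * z' * g⁻¹ with hz''
  have hz''Z : z'' ∈ F.Z := (mem_normalizer_iff.1 (F.N_T_le_Z hg) z').1 hz'Z
  have hz''1 : z'' ≠ 1 := fun e => hz'1 (by simpa [hz''] using e)
  have hz''z' : z'' ≠ z' := fun e => hzz' (mul_left_cancel (mul_right_cancel e))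
  have hz''z : z'' ≠ z := by
    intro e
    have hw : z * z' ∈ F.Z := mul_mem hz hz'Z
    have hw1 : z * z' ≠ 1 := fun e1 => hzz' (mul_left_cancel (e1.trans (F.sq_of_mem (F.Z_le_A hz)).symm))
    refine hgZ ?_
    rw [← h.cent_eq hw hw1, mem_centralizer_singleton_iff]
    refine mul_inv_eq_iff_eq_mul.1 ?_
    calc g * (z * z') * g⁻¹ = z' * z'' := by rw [hz'', hz']; group
      _ = z * z' := by rw [e]; exact F.comm_A (F.Z_le_A hz'Z) (F.Z_le_A hz)
  have hall : ∀ w ∈ F.Z, w ≠ 1 → w = z ∨ w = z' ∨ w = z'' := by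
    intro w hw hw1
    haveI := Fintype.ofFinite G
    by_contra hcon
    simp only [not_or] at hcon
    obtain ⟨ha, hb, hc⟩ := hcon
    have h5 : ({1, z, z', z'', w} : Finset G) ⊆ Finset.univ.filter fun x => x ∈ F.Z := by
      intro x hx
      simp only [Finset.mem_insert, Finset.mem_singleton] at hx
      rcases hx with rfl | rfl | rfl | rfl | rfl <;> simp [hz, hz'Z, hz''Z, hw]
    have h6 := Finset.card_le_card h5
    rw [← Fintype.card_subtype, ← Nat.card_eq_fintype_card, show Nat.card {x // x ∈ F.Z} = 4 from F.card_Z,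
      Finset.card_insert_of_notMem, Finset.card_insert_of_notMem, Finset.card_insert_of_notMem,
      Finset.card_insert_of_notMem, Finset.card_singleton] at h6
    · omega
    all_goals simp only [Finset.mem_insert, Finset.mem_singleton, not_or]
    · exact Ne.symm hc
    · exact ⟨hz''z'.symm, Ne.symm hb⟩
    · exact ⟨hzz'.symm, hz''z.symm, Ne.symm ha⟩
    · exact ⟨hz1.symm, hz'1.symm, hz''1.symm, hw1.symm⟩
  -- all involutions of the centraliser are conjugate to `z`
  let zX : X := ⟨z, hZX hz⟩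
  have hPfuse : ∀ w ∈ (P : Subgroup X), w ≠ 1 → IsConj zX w := by
    intro w hw hw1
    rcases hall w (mem_subgroupOf.1 hw) (fun e => hw1 (Subtype.ext e)) with e | e | e
    · exact (show zX = w from Subtype.ext e.symm) ▸ IsConj.refl _
    · exact isConj_iff.2 ⟨⟨g, hgX⟩, Subtype.ext (by simpa [zX, hz'] using e.symm)⟩
    · refine isConj_iff.2 ⟨⟨g, hgX⟩ * ⟨g, hgX⟩, Subtype.ext ?_⟩
      rw [e, hz'', hz']
      show g * g * z * (g * g)⁻¹ = _
      group
  -- the core
  have hOodd := CfsgLib.GW.odd_oddCore X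
  set O := Cfsg.oddCore X with hO
  haveI : O.Normal := Subgroup.sSup_normal _ (fun _ h => h.1)
  have hsX : s ∈ X := mem_centralizer_singleton_iff.2 rfl
  let sX : X := ⟨s, hsX⟩
  have hOle : O ≤ zpowers sX := by
    have h1 : O.map X.subtype ≤ zpowers s := by
      refine CfsgLib.SolvSignalizer.le_of_fixed_points F.elem_Z (by rw [F.card_Z]; norm_num) ?_ ?_ ?_
      · intro a ha
        refine CfsgLib.ProdFusion.mem_of_forall_conj_mem ?_
        rintro _ ⟨o, ho, rfl⟩
        exact ⟨⟨a, hZX ha⟩ * o * ⟨a, hZX ha⟩⁻¹, Subgroup.Normal.conj_mem ‹O.Normal› o ho _, rfl⟩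
      · rw [card_map_of_injective X.subtype_injective]
        exact fun hd => Nat.not_even_iff_odd.2 hOodd (even_iff_two_dvd.2 hd)
      · rintro a ha ha1 x ⟨hxO, hxa⟩
        obtain ⟨o, ho, rfl⟩ := hxO
        refine h.mem_zpowers_of_odd hs hso (h.cent_eq ha ha1 ▸ hxa) ?_ (mem_centralizer_singleton_iff.1 o.2)
        show Odd (orderOf (o : G))
        rw [Subgroup.orderOf_coe]
        exact hOodd.of_dvd_nat (Subgroup.orderOf_dvd_natCard O ho)
    intro o ho
    obtain ⟨i, hi⟩ := mem_zpowers_iff.1 (h1 ⟨o, ho, rfl⟩)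
    exact mem_zpowers_iff.2 ⟨i, Subtype.ext (by simpa [sX] using hi)⟩
  have hsO : zpowers sX ≤ O := by
    haveI : (zpowers sX).Normal := by
      refine ⟨fun y hy x => ?_⟩
      obtain ⟨i, rfl⟩ := mem_zpowers_iff.1 hy
      have hc : Commute x sX := Subtype.ext (mem_centralizer_singleton_iff.1 x.2)
      rw [(hc.zpow_right i).eq, mul_inv_cancel_right]
      exact zpow_mem (mem_zpowers sX) i
    refine CfsgLib.Coprime.le_pPrimeCore ?_
    rw [Nat.card_zpowers, Subgroup.orderOf_mk, hso]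
    norm_num
  have hOeq : O = zpowers sX := le_antisymm hOle hsO
  have hO3 : Nat.card O = 3 := by rw [hOeq, Nat.card_zpowers, Subgroup.orderOf_mk, hso]
  -- the quotient
  let π := QuotientGroup.mk' O
  have hπ : Function.Surjective π := QuotientGroup.mk'_surjective _
  have hPO : ∀ w ∈ (P : Subgroup X), w ∈ O → w = 1 := fun w hw hwO => by
    have h1 : orderOf w ∣ 4 := hPc ▸ Subgroup.orderOf_dvd_natCard _ hw
    have h2 : orderOf w ∣ 3 := hO3 ▸ Subgroup.orderOf_dvd_natCard _ hwO
    exact orderOf_eq_one_iff.1 (Nat.eq_one_of_dvd_one (Nat.dvd_gcd h1 h2))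
  let Q : Sylow 2 (X ⧸ O) := P.mapSurjective hπ
  have hQ4 : Nat.card (Q : Subgroup (X ⧸ O)) = 4 := by
    show Nat.card ((P : Subgroup X).map π) = 4
    rw [← hPc]
    refine (Nat.card_congr (Equiv.ofBijective (π.subgroupMap (P : Subgroup X)) ⟨?_, π.subgroupMap_surjective _⟩)).symm
    intro a b e
    have e' : (a : X)⁻¹ * b ∈ O := QuotientGroup.eq.1 (congrArg Subtype.val e)
    exact Subtype.ext (inv_mul_eq_one.1 (hPO _ (mul_mem (inv_mem a.2) b.2) e'))
  have hsq : ∀ w ∈ (P : Subgroup X), w * w = 1 := fun w hw =>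
    Subtype.ext (F.sq_of_mem (F.Z_le_A (mem_subgroupOf.1 hw)))
  haveI hK : IsKleinFour (Q : Subgroup (X ⧸ O)) := by
    refine ⟨hQ4, ?_⟩
    haveI : Nontrivial (Q : Subgroup (X ⧸ O)) := Finite.one_lt_card_iff_nontrivial.1 (by rw [hQ4]; norm_num)
    refine Monoid.exponent_eq_prime_iff Nat.prime_two |>.2 fun q hq => orderOf_eq_prime ?_ hq
    obtain ⟨w, hw, e⟩ := (show (q : X ⧸ O) ∈ (P : Subgroup X).map π from q.2)
    refine Subtype.ext ?_
    show ((q : X ⧸ O)) ^ 2 = 1
    rw [← e, ← map_pow, pow_two, hsq w hw, map_one]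
  have hone : ∀ x : X ⧸ O, orderOf x = 2 → IsConj (π zX) x := by
    intro x hx
    obtain ⟨c, hc⟩ := exists_conj_le_sylow
      (IsPGroup.of_card (n := 1) (by rw [Nat.card_zpowers, hx, pow_one]) : IsPGroup 2 (zpowers x)) Q
    obtain ⟨w, hw, e⟩ := (show c * x * c⁻¹ ∈ (P : Subgroup X).map π from hc x (mem_zpowers x))
    have hw1 : w ≠ 1 := fun e1 => invol_ne_one (invol_conj hx c) (by rw [← e, e1, map_one])
    exact ((π.map_isConj (hPfuse w hw hw1))).trans (e ▸ (isConj_iff.2 ⟨c, rfl⟩ : IsConj x (c * x * c⁻¹)).symm)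
  have hzπ : orderOf (π zX) = 2 := by
    refine orderOf_eq_prime ?_ fun e => ?_
    · rw [← map_pow, pow_two, hsq zX (mem_subgroupOf.2 hz), map_one]
    · exact hz1 (congrArg Subtype.val (hPO zX (mem_subgroupOf.2 hz) ((QuotientGroup.eq_one_iff _).1 e)))
  have hXc := Subgroup.card_eq_card_quotient_mul_card_subgroup O
  rw [hO3] at hXc
  rcases klein_type Q hK (CfsgLib.HallNumbers.oddCore_eq_bot_quotient) (fun x y hx hy =>
    (hone x hx).symm.trans (hone y hy)) with ⟨-, h12⟩ | ⟨r, -, -, -, hr, M, -, hM, -, -⟩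
  · rw [h12] at hXc
    rw [hXc] at h5
    norm_num at h5
  · obtain ⟨-, hMc⟩ := hM _ hzπ
    -- the centraliser of the image
    have hD : Nat.card (centralizer (F.Z : Set G) ⊓ X : Subgroup G) ≤ 12 := by
      have h1 : Nat.card (centralizer (F.Z : Set G) ⊓ X : Subgroup G) ∣ 192 := by
        refine (Subgroup.card_dvd_of_le inf_le_left).trans ?_
        rcases h.card_CZ with e | e <;> rw [e] <;> norm_num
      have h8 : ¬ 8 ∣ Nat.card (centralizer (F.Z : Set G) ⊓ X : Subgroup G) := fun hd =>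
        h.not_eight hs hso (hd.trans (Subgroup.card_dvd_of_le inf_le_right))
      have hmem := Nat.mem_divisors.2 ⟨h1, by norm_num⟩
      rw [show Nat.divisors 192 = {1, 2, 3, 4, 6, 8, 12, 16, 24, 32, 48, 64, 96, 192} by decide] at hmem
      simp only [Finset.mem_insert, Finset.mem_singleton] at hmem
      rcases hmem with e | e | e | e | e | e | e | e | e | e | e | e | e | e <;> rw [e] at h8 ⊢ <;> omega
    have hsub : ((centralizer ({π zX} : Set (X ⧸ O))).comap π).map X.subtype ≤ centralizer (F.Z : Set G) ⊓ X := by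
      rintro _ ⟨y, hy, rfl⟩
      refine ⟨?_, y.2⟩
      show (y : G) ∈ centralizer (F.Z : Set G)
      rw [← h.cent_eq hz hz1, mem_centralizer_singleton_iff]
      have e : π (y * zX * y⁻¹ * zX⁻¹) = 1 := by
        rw [map_mul, map_mul, map_mul, map_inv, map_inv, mem_centralizer_singleton_iff.1 hy]
        group
      set o := y * zX * y⁻¹ * zX⁻¹ with ho
      have hoO : o ∈ O := (QuotientGroup.eq_one_iff _).1 e
      have hcz : o * zX = zX * o := by
        obtain ⟨i, hi⟩ := mem_zpowers_iff.1 (hOle hoO)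
        have hc : Commute zX sX := Subtype.ext (mem_centralizer_iff.1 hs z hz)
        rw [← hi]
        exact (hc.zpow_right i).symm.eq
      have ho2 : o * o = 1 := by
        have e1 : (o * zX) * (o * zX) = 1 := by
          rw [ho, show y * zX * y⁻¹ * zX⁻¹ * zX = y * zX * y⁻¹ by group,
            show y * zX * y⁻¹ * (y * zX * y⁻¹) = y * (zX * zX) * y⁻¹ by group, hsq zX (mem_subgroupOf.2 hz)]
          group
        calc o * o = o * o * (zX * zX) := by rw [hsq zX (mem_subgroupOf.2 hz), mul_one]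
          _ = o * (o * zX) * zX := by group
          _ = o * (zX * o) * zX := by rw [hcz]
          _ = o * zX * (o * zX) := by group
          _ = 1 := e1
      have h2o : orderOf o ∣ 2 := orderOf_dvd_of_pow_eq_one (by rw [pow_two]; exact ho2)
      have h3o : orderOf o ∣ 3 := hO3 ▸ Subgroup.orderOf_dvd_natCard O hoO
      have ho1 : o = 1 := orderOf_eq_one_iff.1 (Nat.eq_one_of_dvd_one (Nat.dvd_gcd h2o h3o))
      have := congrArg Subtype.val ho1
      rw [ho] at this
      exact mul_inv_eq_iff_eq_mul.1 (mul_inv_eq_one.1 this)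
    have hCle : Nat.card (centralizer ({π zX} : Set (X ⧸ O))) * 3 ≤ 12 := by
      refine le_trans (le_of_eq ?_) ((Subgroup.card_le_of_le hsub).trans hD)
      rw [card_map_of_injective X.subtype_injective]
      have e1 := ((centralizer ({π zX} : Set (X ⧸ O))).comap π).card_mul_index
      rw [Subgroup.index_comap_of_surjective _ hπ, hXc, ← (centralizer ({π zX} : Set (X ⧸ O))).card_mul_index,
        mul_right_comm] at e1
      exact (Nat.eq_of_mul_eq_mul_right (Nat.pos_of_ne_zero Subgroup.index_ne_zero_of_finite) e1).symm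
    have h4r : 4 * r ≤ 4 := by
      rw [← hMc]
      exact (Subgroup.card_le_of_le inf_le_left).trans (by omega)
    have hr1 : r = 1 := by
      rcases Nat.eq_zero_or_pos r with h0 | h0
      · rw [h0, mul_zero] at hMc
        exact absurd hMc (Nat.card_pos.ne')
      · omega
    rw [hXc, hr hr1]

/-- the centraliser of an element of order three centralising one of order five -/
theorem three_five {s f : G} (hs : s ∈ normalizer (F.A : Set G)) (hso : orderOf s = 3)
    (hf : f ∈ normalizer (F.A : Set G)) (hfo : orderOf f = 5) (hc : s * f = f * s) :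
    centralizer ({s} : Set G) ≤ normalizer (F.A : Set G) ∧
      ∃ v ∈ centralizer ({s} : Set G), orderOf v = 2 := by
  classical
  haveI : Fact (Nat.Prime 2) := ⟨Nat.prime_two⟩
  haveI := Fact.mk (show Nat.Prime 5 by norm_num)
  have hfix := h.fix_of_commute_five hs hso hf hfo hc
  obtain ⟨l, m, -, -, hp, hZ, htr⟩ := F.scalar hfix.mem_NT (hso ▸ by decide)
  have hm : m = (1, 0) := by
    have hs3 : s⁻¹ = s * s := inv_eq_of_mul_eq_one_right (by
      rw [← mul_assoc, ← pow_three', ← hso]; exact pow_orderOf_eq_one s)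
    set q := F.hom ⟨0, (1, 0), 0⟩ with hq
    obtain ⟨d, hd⟩ := hp ⟨0, (1, 0), 0⟩
    have hF : F.Fix (s * q * s⁻¹ * q⁻¹) := by
      rw [show s * q * s⁻¹ * q⁻¹ = s * (q * s⁻¹ * q⁻¹) by group]
      exact hfix.mul ((hs3 ▸ hfix.mul hfix).conj (F.T_le_normalizer_A (F.hom_mem _)))
    have hT : s * q * s⁻¹ * q⁻¹ ∈ (F.T : Subgroup G) := mul_mem
      ((mem_normalizer_iff.1 hfix.mem_NT q).1 (F.hom_mem _)) (inv_mem (F.hom_mem _))
    obtain ⟨L, hL, hne⟩ := Set.exists_ne_of_one_lt_ncard (s := F.lines) (by rw [h.card_lines]; norm_num) F.B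
    have hA := h.two_fix hF.1 (k := 6) (F.pow_two_T hT) hL F.B_mem_lines hne (hF.2 _ hL) (hF.2 _ F.B_mem_lines)
    rw [hq, hd, ← map_inv, ← map_mul, F.hom_mem_A, mul_def, inv_def] at hA
    exact fm_one_add m hA
  have hl : l ≠ (1, 0) := fun e => by
    have hd := Subgroup.orderOf_dvd_natCard _ (h.selfc (htr e hm))
    rw [hso, F.card_T] at hd
    omega
  set W := (F.T : Subgroup G) ⊓ centralizer ({s} : Set G) with hW
  have hWa : ∀ p : H4, F.hom p ∈ W → p.a = 0 := by
    intro p hpW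
    obtain ⟨d, e⟩ := hp p
    rw [← mem_centralizer_singleton_iff.1 hpW.2, mul_inv_cancel_right] at e
    by_contra ha
    exact hl (fm_fix _ _ ha (congrArg (fun x : H4 => x.a) (F.hom_injective e)).symm)
  have hWA : ∀ x ∈ W, x ∈ F.A → x = 1 := by
    intro x hxW hxA
    obtain ⟨p, rfl⟩ := F.exists_of_mem hxW.1
    have e0 : p = ⟨0, 0, p.c⟩ := CfsgLib.Invol.HeisFour.H4.ext' (hWa p hxW) (F.hom_mem_A.1 hxA) rfl
    have e := hZ p.c
    rw [← e0, ← mem_centralizer_singleton_iff.1 hxW.2, mul_inv_cancel_right] at e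
    have hc0 : p.c = 0 := by
      by_contra hc0
      have h1 := fm_fix _ _ hc0 (congrArg (fun x : H4 => x.c) (F.hom_injective e)).symm
      rw [hm] at h1
      exact hl (fm_left_one l h1)
    rw [e0, hc0]
    exact map_one F.hom
  have hW4 : Nat.card W = 4 := by
    have hex : ∀ b : V, ∃ c : V, F.hom ⟨0, b, c⟩ ∈ W := by
      intro b
      obtain ⟨d, hd⟩ := hp ⟨0, b, 0⟩
      rw [hm, fm_one, CfsgLib.Invol.HeisFour.fm_zero_right] at hd
      obtain ⟨c, hc'⟩ := plane_fm_solve l d hl
      refine ⟨c, F.hom_mem _, mem_centralizer_singleton_iff.2 ?_⟩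
      have e : (⟨0, b, c⟩ : H4) = ⟨0, b, 0⟩ * ⟨0, 0, c⟩ := by
        rw [mul_def]
        refine CfsgLib.Invol.HeisFour.H4.ext' (add_zero _).symm (add_zero _).symm ?_
        show c = 0 + c + fm 0 0
        rw [CfsgLib.Invol.HeisFour.fm_zero_left, zero_add, add_zero]
      have e2 : s * F.hom ⟨0, b, c⟩ * s⁻¹ = F.hom ⟨0, b, c⟩ := by
        conv_lhs => rw [e, map_mul, show s * (F.hom ⟨0, b, 0⟩ * F.hom ⟨0, 0, c⟩) * s⁻¹ =
          (s * F.hom ⟨0, b, 0⟩ * s⁻¹) * (s * F.hom ⟨0, 0, c⟩ * s⁻¹) by group, hd, hZ, hm, ← map_mul, mul_def]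
        congr 1
        refine CfsgLib.Invol.HeisFour.H4.ext' (add_zero _) (add_zero _) ?_
        show d + fm (fm l (1, 0)) c + fm 0 0 = c
        rw [CfsgLib.Invol.HeisFour.fm_zero_left, add_zero]
        have : fm l (1, 0) = l := plane_fm_one_right l
        rw [this, hc']
      exact (mul_inv_eq_iff_eq_mul.1 e2).symm
    choose c hc' using hex
    have hbij : Function.Bijective (fun b : V => (⟨F.hom ⟨0, b, c b⟩, hc' b⟩ : W)) := by
      refine ⟨fun a b e => ?_, fun x => ?_⟩
      · have e1 : F.hom ⟨0, a, c a⟩ = F.hom ⟨0, b, c b⟩ := congrArg (fun x : W => (x : G)) e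
        exact congrArg (fun x : H4 => x.b) (F.hom_injective e1)
      obtain ⟨p, hpx⟩ := F.exists_of_mem x.2.1
      refine ⟨p.b, Subtype.ext ?_⟩
      show F.hom ⟨0, p.b, c p.b⟩ = (x : G)
      have h1 : F.hom ⟨0, p.b, c p.b⟩ * (x : G)⁻¹ ∈ F.A := by
        rw [← hpx, ← map_inv, ← map_mul, F.hom_mem_A, mul_def, inv_def]
        exact CfsgLib.Invol.HeisFour.self_add _
      exact mul_inv_eq_one.1 (hWA _ (mul_mem (hc' _) (inv_mem x.2)) h1)
    rw [← Nat.card_eq_of_bijective _ hbij]
    simp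
  have hWB : W ≤ F.B := fun x hx => by
    obtain ⟨p, rfl⟩ := F.exists_of_mem hx.1
    exact F.hom_mem_B.2 (hWa p hx)
  have hWinv : ∀ v ∈ W, v ≠ 1 → orderOf v = 2 := fun v hv hv1 => by
    refine orderOf_eq_prime ?_ hv1
    rw [pow_two]
    exact F.swap.sq_of_mem (F.swap_A.symm ▸ hWB hv)
  obtain ⟨⟨v, hv⟩, hv1⟩ := ne_bot_iff_exists_ne_one.1 (show W ≠ ⊥ from fun e => by
    rw [e, card_bot] at hW4; omega)
  have hv1' : v ≠ 1 := fun e => hv1 (Subtype.ext e)
  -- no element of order five is normalised by `W`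
  have hnofive : ∀ y : G, orderOf y = 5 → y ∈ normalizer (F.A : Set G) →
      (∀ x ∈ W, x * y * x⁻¹ ∈ zpowers y) → False := by
    intro y hy hyA hnorm
    have hpm : ∀ x ∈ W, x * y * x⁻¹ = y ∨ x * y * x⁻¹ = y⁻¹ := by
      intro x hx
      obtain ⟨i, hi⟩ := mem_zpowers_iff.1 (hnorm x hx)
      have hx2 : x * x = 1 := F.swap.sq_of_mem (F.swap_A.symm ▸ hWB hx)
      have e : y ^ (i * i) = y ^ (1 : ℤ) := by
        rw [zpow_mul, hi, conj_zpow, hi, zpow_one,
          show x * (x * y * x⁻¹) * x⁻¹ = (x * x) * y * (x * x)⁻¹ by group, hx2]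
        group
      rw [zpow_eq_zpow_iff_modEq, hy] at e
      have h5 : (5 : ℤ) ∣ (i - 1) * (i + 1) := by
        have := Int.ModEq.dvd e.symm
        rw [show (i - 1) * (i + 1) = i * i - 1 by ring]
        exact_mod_cast this
      rcases (Int.Prime.dvd_mul' (by norm_num : Nat.Prime 5) h5) with h1 | h1
      · left
        rw [← hi]
        conv_rhs => rw [← zpow_one y]
        rw [zpow_eq_zpow_iff_modEq, hy]
        exact (Int.modEq_iff_dvd.2 (by exact_mod_cast h1)).symm
      · right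
        rw [← hi, ← zpow_neg_one, zpow_eq_zpow_iff_modEq, hy]
        exact (Int.modEq_iff_dvd.2 (by rw [sub_neg_eq_add]; exact_mod_cast h1)).symm
    obtain ⟨x, hx, hx1, hxy⟩ : ∃ x ∈ W, x ≠ 1 ∧ x * y * x⁻¹ = y := by
      obtain ⟨w, hw, hwne⟩ : ∃ w ∈ W, w ∉ zpowers v := SetLike.not_le_iff_exists.1 fun hle => by
        have := Subgroup.card_le_of_le hle
        rw [hW4, Nat.card_zpowers, hWinv v hv hv1'] at this
        omega
      rcases hpm v hv with e | e
      · exact ⟨v, hv, hv1', e⟩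
      rcases hpm w hw with e' | e'
      · exact ⟨w, hw, fun e1 => hwne (e1 ▸ one_mem _), e'⟩
      refine ⟨v * w, mul_mem hv hw, fun e1 => hwne ?_, ?_⟩
      · rw [eq_inv_of_mul_eq_one_right e1]; exact inv_mem (mem_zpowers v)
      · calc v * w * y * (v * w)⁻¹ = v * (w * y * w⁻¹) * v⁻¹ := by group
          _ = (v * y * v⁻¹)⁻¹ := by rw [e']; group
          _ = y := by rw [e, inv_inv]
    have hxA : x ∉ F.A := fun hh => hx1 (hWA x hx hh)
    refine h.five_move hyA hy F.B_mem_lines (h.T_fix hx.1 hxA hyA ?_)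
    have hxB : conjBy x F.B = F.B := conjBy_eq_self_iff.2 (F.T_le_normalizer_B hx.1)
    rw [conjBy_conjBy, mul_inv_eq_iff_eq_mul.1 hxy, ← conjBy_conjBy, hxB]
  -- the centraliser in the normaliser
  set H := centralizer ({s} : Set G) ⊓ normalizer (F.A : Set G) with hH
  have hWH : W ≤ H := fun x hx => ⟨hx.2, F.T_le_normalizer_A hx.1⟩
  have hsH : s ∈ H := ⟨mem_centralizer_singleton_iff.2 rfl, hs⟩
  have hfH : f ∈ H := ⟨mem_centralizer_singleton_iff.2 hc.symm, hf⟩
  obtain ⟨n, hn, hnZ⟩ := h.moveB v (hWB hv)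
  set z := n * v * n⁻¹ with hz
  have hz1 : z ≠ 1 := fun e => hv1' (by simpa [hz] using e)
  set s' := n * s * n⁻¹ with hs'
  have hs'o : orderOf s' = 3 := by
    rw [← hso]; exact MulEquiv.orderOf_eq (MulAut.conj n) s
  have hs'Z : s' ∈ centralizer (F.Z : Set G) := by
    rw [← h.cent_eq hnZ hz1, mem_centralizer_singleton_iff, hs', hz,
      show n * s * n⁻¹ * (n * v * n⁻¹) = n * (s * v) * n⁻¹ by group, ← mem_centralizer_singleton_iff.1 hv.2]
    group
  have hXeq : conjBy n (centralizer ({s} : Set G)) = centralizer ({s'} : Set G) := conjBy_centralizer n s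
  have hWn : conjBy n W = F.Z := by
    refine eq_of_le_of_card_ge ?_ (by rw [card_conjBy, hW4, F.card_Z])
    rintro _ ⟨x, hx, rfl⟩
    show n * x * n⁻¹ ∈ F.Z
    have hxv : x * v = v * x := by
      have := F.swap.comm_A (F.swap_A.symm ▸ hWB hx) (F.swap_A.symm ▸ hWB hv); exact this
    have hxT : n * x * n⁻¹ ∈ (F.T : Subgroup G) := F.conj_mem_T hx.1 (h.cent _ hnZ hz1
      (mem_centralizer_singleton_iff.2 (by
        rw [hz, show n * x * n⁻¹ * (n * v * n⁻¹) = n * (x * v) * n⁻¹ by group, hxv]; group)))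
    refine h.fix_T_eq_Z hs'Z hs'o hxT ?_
    rw [hs', show n * s * n⁻¹ * (n * x * n⁻¹) = n * (s * x) * n⁻¹ by group, ← mem_centralizer_singleton_iff.1 hx.2]
    group
  have h8 : ¬ 8 ∣ Nat.card H := fun hd => h.not_eight hs'Z hs'o (by
    rw [← hXeq, card_conjBy]; exact hd.trans (Subgroup.card_dvd_of_le inf_le_left))
  have h4 : 4 ∣ Nat.card H := hW4 ▸ Subgroup.card_dvd_of_le hWH
  have h3 : 3 ∣ Nat.card H := hso ▸ Subgroup.orderOf_dvd_natCard _ hsH
  have h5 : 5 ∣ Nat.card H := hfo ▸ Subgroup.orderOf_dvd_natCard _ hfH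
  have hbig : Nat.card H ∣ 2880 := by
    refine (Subgroup.card_dvd_of_le inf_le_right).trans ?_
    rw [h.card_NA]
    rcases h.card_CZ with e | e <;> rw [e] <;> norm_num
  have hcases : Nat.card H = 60 ∨ Nat.card H = 180 := by
    obtain ⟨j, hj⟩ := h4
    have hjo : Odd j := by
      rw [← Nat.not_even_iff_odd, even_iff_two_dvd]
      exact fun hd => h8 (hj ▸ mul_dvd_mul_left 4 hd)
    have hj45 : j ∣ 45 := Nat.Coprime.dvd_of_dvd_mul_left ((Nat.coprime_two_right.2 hjo).pow_right 6)
      (show j ∣ 2 ^ 6 * 45 from (dvd_mul_left j 4).trans (hj ▸ hbig))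
    rw [hj] at h3 h5 ⊢
    have hmem := Nat.mem_divisors.2 ⟨hj45, by norm_num⟩
    rw [show Nat.divisors 45 = {1, 3, 5, 9, 15, 45} by decide] at hmem
    simp only [Finset.mem_insert, Finset.mem_singleton] at hmem
    rcases hmem with e | e | e | e | e | e <;> subst e <;> omega
  let fH : H := ⟨f, hfH⟩
  have hfHo : orderOf fH = 5 := by rw [Subgroup.orderOf_mk]; exact hfo
  have hfW : ∀ (M : Subgroup H), M.Normal → Nat.card M ∣ 45 → fH ∈ M → False := by
    intro M hMn hM hfM
    refine hnofive f hfo hf fun x hx => ?_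
    have hmem := hMn.conj_mem fH hfM ⟨x, hWH hx⟩
    have h' := (five_central hM (f := ⟨fH, hfM⟩) (by rw [Subgroup.orderOf_mk]; exact hfHo)).1 ⟨_, hmem⟩ (by
      rw [Subgroup.orderOf_mk, ← hfHo]; exact MulEquiv.orderOf_eq (MulAut.conj (⟨x, hWH hx⟩ : H)) fH)
    obtain ⟨i, hi⟩ := mem_zpowers_iff.1 h'
    refine mem_zpowers_iff.2 ⟨i, ?_⟩
    have := congrArg (fun y : M => ((y : H) : G)) hi
    simpa [fH] using this
  have h180 : Nat.card H = 180 := by
    rcases hcases with h60 | h180
    swap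
    · exact h180
    exfalso
    have hP : Nat.card (zpowers fH) = 5 ^ (Nat.card H).factorization 5 := by
      rw [Nat.card_zpowers, hfHo, h60]
      have : Nat.factorization 60 5 = 1 := by
        rw [← Nat.multiplicity_eq_factorization (by norm_num) (by norm_num)]
        exact multiplicity_eq_of_dvd_of_not_dvd (by norm_num) (by norm_num)
      rw [this, pow_one]
    let P : Sylow 5 H := Sylow.ofCard (zpowers fH) hP
    have hPi : (P : Subgroup H).index = 12 := by
      have e := (P : Subgroup H).card_mul_index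
      rw [show Nat.card (P : Subgroup H) = 5 by
        show Nat.card (zpowers fH) = 5
        rw [Nat.card_zpowers, hfHo], h60] at e
      omega
    have h1 := Sylow.card_dvd_index P
    rw [hPi] at h1
    have h2 := card_sylow_modEq_one 5 H
    have hmem := Nat.mem_divisors.2 ⟨h1, by norm_num⟩
    rw [show Nat.divisors 12 = {1, 2, 3, 4, 6, 12} by decide] at hmem
    simp only [Finset.mem_insert, Finset.mem_singleton] at hmem
    rcases hmem with e | e | e | e | e | e <;> rw [e] at h2 <;> simp [Nat.ModEq] at h2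
    · haveI := (Nat.card_eq_one_iff_unique.1 e).1
      exact hfW (P : Subgroup H) P.normal_of_subsingleton
        (by show Nat.card (zpowers fH) ∣ 45; rw [Nat.card_zpowers, hfHo]; norm_num) (mem_zpowers fH)
    · have e' := Sylow.card_eq_index_normalizer P
      rw [e] at e'
      have hN := (normalizer ((P : Subgroup H) : Set H)).card_mul_index
      rw [h60] at hN
      have hN6 : (normalizer ((P : Subgroup H) : Set H)).index = 6 := e'.symm
      rw [hN6] at hN
      have hsN : (⟨s, hsH⟩ : H) ∈ normalizer ((P : Subgroup H) : Set H) := by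
        refine CfsgLib.ProdFusion.mem_of_forall_conj_mem fun y hy => ?_
        obtain ⟨i, rfl⟩ := mem_zpowers_iff.1 (show y ∈ zpowers fH from hy)
        have hcs : Commute (⟨s, hsH⟩ : H) fH := Subtype.ext hc
        rw [(hcs.zpow_right i).eq, mul_inv_cancel_right]
        exact zpow_mem (mem_zpowers fH) i
      have hd := Subgroup.orderOf_dvd_natCard _ hsN
      rw [Subgroup.orderOf_mk, hso] at hd
      omega
  -- an element fusing `W`
  have hWc : Nat.card (W.subgroupOf H) = 2 ^ 2 := by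
    rw [Nat.card_congr (subgroupOfEquivOfLe hWH).toEquiv, hW4]; rfl
  have hWi : (W.subgroupOf H).index = 45 := by
    have e := (W.subgroupOf H).card_mul_index
    rw [hWc, h180] at e
    omega
  let Q : Sylow 2 H := (IsPGroup.of_card hWc).toSylow (by rw [hWi]; norm_num)
  obtain ⟨g, hgN, hgC⟩ : ∃ g ∈ normalizer ((Q : Subgroup H) : Set H), g ∉ centralizer ((Q : Subgroup H) : Set H) := by
    refine SetLike.not_le_iff_exists.1 fun hle => ?_
    have hcomp := MonoidHom.ker_transferSylow_isComplement' Q hle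
    set M := (MonoidHom.transferSylow Q hle).ker
    have hMc : Nat.card M = 45 := by
      have e := hcomp.card_mul
      rw [show Nat.card (Q : Subgroup H) = 4 from hWc, h180] at e
      omega
    refine hfW M inferInstance (dvd_of_eq hMc) ?_
    have hidx : M.index = 4 := by
      have e := M.card_mul_index
      rw [hMc, h180] at e
      omega
    have h1 : orderOf (QuotientGroup.mk' M fH) ∣ 4 := by
      rw [← hidx, Subgroup.index_eq_card]; exact orderOf_dvd_natCard _
    have h2 : orderOf (QuotientGroup.mk' M fH) ∣ 5 := hfHo ▸ orderOf_map_dvd _ fH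
    exact (QuotientGroup.eq_one_iff _).1 (orderOf_eq_one_iff.1 (Nat.eq_one_of_dvd_one (Nat.dvd_gcd h1 h2)))
  set g' := n * (g : G) * n⁻¹ with hg'
  have hgW : ∀ x ∈ W, (g : G) * x * (g : G)⁻¹ ∈ W := fun x hx => by
    have := (mem_normalizer_iff.1 hgN ⟨x, hWH hx⟩).1 (mem_subgroupOf.2 hx)
    exact mem_subgroupOf.1 this
  have hg'N : g' ∈ normalizer ((F.T : Subgroup G) : Set G) := by
    refine h.mem_NT_of_conj hnZ hz1 ?_
    rw [← hWn, hg', hz, show n * (g : G) * n⁻¹ * (n * v * n⁻¹) * (n * (g : G) * n⁻¹)⁻¹ =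
      n * ((g : G) * v * (g : G)⁻¹) * n⁻¹ by group]
    exact conj_mem_conjBy (hgW v hv)
  have hg's : g' * s' = s' * g' := by
    rw [hg', hs', show n * (g : G) * n⁻¹ * (n * s * n⁻¹) = n * ((g : G) * s) * n⁻¹ by group,
      mem_centralizer_singleton_iff.1 g.2.1]
    group
  have hg'Z : g' ∉ centralizer (F.Z : Set G) := fun hh => hgC (mem_centralizer_iff.2 fun x hx => by
    have hxW : (x : G) ∈ W := mem_subgroupOf.1 hx
    have e := mem_centralizer_iff.1 hh (n * (x : G) * n⁻¹) (by rw [← hWn]; exact conj_mem_conjBy hxW)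
    refine Subtype.ext (mul_left_cancel (a := n) (mul_right_cancel (b := n⁻¹) ?_))
    calc n * ((x : G) * g) * n⁻¹ = (n * (x : G) * n⁻¹) * g' := by rw [hg']; group
      _ = n * ((g : G) * x) * n⁻¹ := by rw [e, hg']; group)
  have hC : Nat.card (centralizer ({s} : Set G)) = 180 := by
    rw [← card_conjBy n, hXeq]
    refine h.card_cent_three hs'Z hs'o hg'N hg's hg'Z ?_
    rw [← hXeq, card_conjBy]
    exact h5.trans (Subgroup.card_dvd_of_le inf_le_left)
  refine ⟨?_, v, hv.2, hWinv v hv hv1'⟩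
  rw [← eq_of_le_of_card_ge (inf_le_left : H ≤ _) (by rw [hC, h180])]
  exact inf_le_right

end PlaneHyp

end CfsgLib.Invol.L34Type
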